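import Mathlib

set_option autoImplicit false

/-!
S5753, linear interface.
-/

namespace Cfsg.Agent.H27.BPA

/-- the linear form of "binary": partial isometries in the sense of `H`-conjugacy of the
vectors and of their differences are realised by a single element of `H`. -/
def Bin (H V : Type*) [Group H] [AddCommGroup V] [DistribMulAction H V] : Prop :=
  ∀ S : Set (V × V), (∀ a ∈ S, ∃ h : H, h • a.1 = a.2) →
    (∀ a ∈ S, ∀ b ∈ S, ∃ h : H, h • (a.1 - b.1) = a.2 - b.2) →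
    ∃ h : H, ∀ a ∈ S, h • a.1 = a.2

/-- `V` is an irreducible `H`-module (as an abelian group). -/
def Irr (H V : Type*) [Group H] [AddCommGroup V] [DistribMulAction H V] : Prop :=
  ∀ M : AddSubgroup V, (∀ h : H, ∀ v ∈ M, h • v ∈ M) → M = ⊥ ∨ M = ⊤

/-- the dihedral group of order `2 (q + 1)` on a group of order `q ^ 2`. -/
def Dih (p : ℕ) (H V : Type*) [Group H] [AddCommGroup V] [DistribMulAction H V] : Prop :=
  ∃ (a : ℕ) (C : Subgroup H) (t : H), 1 ≤ a ∧ Nat.card V = (p ^ a) ^ 2 ∧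
    (∀ x ∈ C, ∀ y ∈ C, x * y = y * x) ∧ Nat.card C = p ^ a + 1 ∧
    (∀ c ∈ C, c ≠ 1 → ∀ v : V, c • v = v → v = 0) ∧
    t ∉ C ∧ t * t = 1 ∧ (∀ c ∈ C, t * c * t = c⁻¹) ∧ (∀ h : H, h ∈ C ∨ h * t ∈ C) ∧
    ∃ v : V, v ≠ 0 ∧ t • v = v

end Cfsg.Agent.H27.BPA
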