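import Cfsg.Agent.H27.BPA0

set_option autoImplicit false
set_option linter.unusedSectionVars false
set_option linter.deprecated false

/-!
S5753: basic facts on the elements with maximal fixed space of a linear binary group.
-/

namespace Cfsg.Agent.H27.BPA

variable {H V : Type*} [Group H] [AddCommGroup V] [DistribMulAction H V]

/-- `v ↦ h • v - v` -/
def dl (V : Type*) [AddCommGroup V] [DistribMulAction H V] (h : H) : V →+ V :=
  DistribSMul.toAddMonoidHom V h - AddMonoidHom.id V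

theorem dl_apply (h : H) (v : V) : dl V h v = h • v - v := rfl

/-- fixed space -/
def Fx (V : Type*) [AddCommGroup V] [DistribMulAction H V] (h : H) : AddSubgroup V := (dl V h).ker

/-- commutator space -/
def Wx (V : Type*) [AddCommGroup V] [DistribMulAction H V] (h : H) : AddSubgroup V := (dl V h).range

theorem mem_Fx {h : H} {v : V} : v ∈ Fx V h ↔ h • v = v := by
  rw [Fx, AddMonoidHom.mem_ker, dl_apply, sub_eq_zero]

theorem mem_Wx {h : H} {w : V} : w ∈ Wx V h ↔ ∃ v : V, h • v - v = w := Iff.rfl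

theorem sub_mem_Wx (h : H) (v : V) : h • v - v ∈ Wx V h := ⟨v, rfl⟩

theorem card_Fx_Wx (h : H) : Nat.card (Fx V h) * Nat.card (Wx V h) = Nat.card V := by
  have := AddSubgroup.card_mul_index (Fx V h)
  rw [Fx, AddSubgroup.index_ker] at this
  exact this

/-- element with maximal fixed space. -/
def IsRf (V : Type*) [AddCommGroup V] [DistribMulAction H V] (r : H) : Prop :=
  r ≠ 1 ∧ ∀ h : H, h ≠ 1 → Fx V r ≤ Fx V h → Fx V h = Fx V r

theorem smul_inv_eq {h : H} {a b : V} (e : h • a = b) : h⁻¹ • b = a := by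
  rw [← e, inv_smul_smul]

/-- swapping two conjugate vectors -/
theorem swap (hb : Bin H V) (X : Set V) (k : H) (hk : ∀ a ∈ X, k • a = a) (x : V) :
    ∃ g : H, (∀ a ∈ X, g • a = a) ∧ g • x = k • x ∧ g • (k • x) = x ∧
      g • (x + k • x) = x + k • x := by
  obtain ⟨g, hg⟩ := hb ({p | p.1 ∈ X ∧ p.2 = p.1} ∪ {(x, k • x), (x + k • x, x + k • x)}) (by
    rintro a (⟨_, h2⟩ | h | h)
    · exact ⟨1, by rw [h2, one_smul]⟩
    · rw [h]; exact ⟨k, rfl⟩
    · rw [h]; exact ⟨1, one_smul _ _⟩) (by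
    rintro a (⟨ha, h2⟩ | h | h) b (⟨hb', h3⟩ | h' | h')
    · exact ⟨1, by rw [h2, h3, one_smul]⟩
    · rw [h']; exact ⟨k, by rw [h2, smul_sub, hk _ ha]⟩
    · rw [h']; exact ⟨1, by rw [h2, one_smul]⟩
    · rw [h]; exact ⟨k, by rw [h3, smul_sub, hk _ hb']⟩
    · rw [h, h']; exact ⟨1, by simp⟩
    · rw [h, h']; exact ⟨k⁻¹, by simp⟩
    · rw [h]; exact ⟨1, by rw [h3, one_smul]⟩
    · rw [h, h']; exact ⟨k⁻¹, by simp⟩
    · rw [h, h']; exact ⟨1, by simp⟩)
  have h1 : g • x = k • x := hg _ (Or.inr (Or.inl rfl))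
  have h2 : g • (x + k • x) = x + k • x := hg _ (Or.inr (Or.inr rfl))
  refine ⟨g, fun a ha => hg (a, a) (Or.inl ⟨ha, rfl⟩), h1, ?_, h2⟩
  rw [smul_add, h1] at h2
  have := add_left_cancel (a := k • x) (b := g • k • x) (c := x) (by rw [h2, add_comm])
  exact this

/-- the element with the largest fixed space mapping `z` to `z'`. -/
theorem plem (hb : Bin H V) (h0 : H) (z : V) :
    ∃ c : H, c • z = h0 • z ∧ ∀ h : H, h • z = h0 • z → Fx V h ≤ Fx V c := by
  obtain ⟨c, hc⟩ := hb ({p | (∃ h : H, h • z = h0 • z ∧ h • p.1 = p.1) ∧ p.2 = p.1} ∪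
      {(z, h0 • z)}) (by
    rintro a (⟨_, h2⟩ | h)
    · exact ⟨1, by rw [h2, one_smul]⟩
    · rw [h]; exact ⟨h0, rfl⟩) (by
    rintro a (⟨⟨k, hk1, hk2⟩, h2⟩ | h) b (⟨⟨l, hl1, hl2⟩, h3⟩ | h')
    · exact ⟨1, by rw [h2, h3, one_smul]⟩
    · rw [h']; exact ⟨k, by rw [h2, smul_sub, hk1, hk2]⟩
    · rw [h]; exact ⟨l, by rw [h3, smul_sub, hl1, hl2]⟩
    · rw [h, h']; exact ⟨1, by simp⟩)
  refine ⟨c, hc (z, h0 • z) (Or.inr rfl), fun h hh v hv => ?_⟩
  rw [mem_Fx] at hv ⊢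
  exact hc (v, v) (Or.inl ⟨⟨h, hh, hv⟩, rfl⟩)

section Fin

variable [FaithfulSMul H V]

theorem ne_one_iff {h : H} : h ≠ 1 ↔ ∃ v : V, v ∉ Fx V h := by
  constructor
  · intro hne
    by_contra hcon
    push Not at hcon
    apply hne
    apply FaithfulSMul.eq_of_smul_eq_smul (α := V)
    intro v
    rw [one_smul]
    exact mem_Fx.1 (hcon v)
  · rintro ⟨v, hv⟩ rfl
    exact hv (mem_Fx.2 (one_smul _ _))

theorem eq_one_of {h : H} (hh : ∀ v : V, h • v = v) : h = 1 := by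
  apply FaithfulSMul.eq_of_smul_eq_smul (α := V)
  intro v
  rw [one_smul, hh v]

theorem exists_rf [Finite V] {h : H} (hne : h ≠ 1) : ∃ r : H, IsRf V r ∧ Fx V h ≤ Fx V r := by
  classical
  have key : ∀ n : ℕ, ∀ k : H, k ≠ 1 → Nat.card V - Nat.card (Fx V k) ≤ n →
      ∃ r : H, IsRf V r ∧ Fx V k ≤ Fx V r := by
    intro n
    induction n with
    | zero =>
      intro k hk hn
      exfalso
      have h1 : Nat.card (Fx V k) ≤ Nat.card V := Finite.card_subtype_le _
      have h2 : Nat.card (Fx V k) = Nat.card V := by omega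
      have h3 := AddSubgroup.eq_top_of_card_eq _ h2
      obtain ⟨v, hv⟩ := (ne_one_iff (V := V)).1 hk
      exact hv (h3 ▸ AddSubgroup.mem_top _)
    | succ n ih =>
      intro k hk hn
      by_cases hR : IsRf V k
      · exact ⟨k, hR, le_rfl⟩
      · unfold IsRf at hR
        push Not at hR
        obtain ⟨l, hl1, hl2, hl3⟩ := hR hk
        have h4 : Fx V k < Fx V l := lt_of_le_of_ne hl2 (Ne.symm hl3)
        have h5 : Nat.card (Fx V k) < Nat.card (Fx V l) := by
          have := Set.Finite.card_lt_card (Set.toFinite (Fx V l : Set V)) h4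
          simpa using this
        have h1 : Nat.card (Fx V l) ≤ Nat.card V := Finite.card_subtype_le _
        obtain ⟨r, hr1, hr2⟩ := ih l hl1 (by omega)
        exact ⟨r, hr1, hl2.trans hr2⟩
  exact key _ h hne le_rfl

end Fin

theorem mem_Fx_conj {g r : H} {v : V} : v ∈ Fx V (g * r * g⁻¹) ↔ g⁻¹ • v ∈ Fx V r := by
  rw [mem_Fx, mem_Fx, mul_smul, mul_smul]
  constructor
  · intro h
    have := congrArg (fun z => g⁻¹ • z) h
    simpa using this
  · intro h
    rw [h, smul_inv_smul]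

theorem mem_Wx_conj {g r : H} {v : V} : v ∈ Wx V (g * r * g⁻¹) ↔ g⁻¹ • v ∈ Wx V r := by
  rw [mem_Wx, mem_Wx]
  constructor
  · rintro ⟨w, hw⟩
    refine ⟨g⁻¹ • w, ?_⟩
    rw [← hw, smul_sub, mul_smul, mul_smul, inv_smul_smul]
  · rintro ⟨w, hw⟩
    refine ⟨g • w, ?_⟩
    rw [mul_smul, mul_smul, inv_smul_smul, ← smul_sub, hw, smul_inv_smul]

theorem IsRf.conj {r : H} (hr : IsRf V r) (g : H) : IsRf V (g * r * g⁻¹) := by
  refine ⟨fun h => hr.1 ?_, fun h hh hle => ?_⟩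
  · have : r = g⁻¹ * (g * r * g⁻¹) * g := by group
    rw [this, h]; group
  · have h1 : g⁻¹ * h * g ≠ 1 := by
      intro h2
      apply hh
      have : h = g * (g⁻¹ * h * g) * g⁻¹ := by group
      rw [this, h2]; group
    have h3 : g⁻¹ * h * g = g⁻¹ * h * g⁻¹⁻¹ := by rw [inv_inv]
    have h2 := hr.2 _ h1 (by
      intro v hv
      rw [h3, mem_Fx_conj, inv_inv]
      apply hle
      rw [mem_Fx_conj, inv_smul_smul]
      exact hv)
    ext v
    rw [mem_Fx_conj, ← h2, h3, mem_Fx_conj, inv_inv, smul_inv_smul]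

theorem IsRf.of_le {r k : H} (hr : IsRf V r) (hk : k ≠ 1) (hle : Fx V r ≤ Fx V k) : IsRf V k := by
  have h := hr.2 k hk hle
  refine ⟨hk, fun l hl hle2 => ?_⟩
  rw [h] at hle2 ⊢
  exact hr.2 l hl hle2

section B

variable [FaithfulSMul H V]

theorem IsRf.exists_notMem {r : H} (hr : IsRf V r) : ∃ x : V, x ∉ Fx V r :=
  ne_one_iff.1 hr.1

theorem mem_mul {a b : H} {v : V} (h1 : v ∈ Fx V a) (h2 : v ∈ Fx V b) : v ∈ Fx V (a * b) := by
  rw [mem_Fx] at *
  rw [mul_smul, h2, h1]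

theorem mem_inv {a : H} {v : V} (h1 : v ∈ Fx V a) : v ∈ Fx V a⁻¹ := by
  rw [mem_Fx] at *
  nth_rw 1 [← h1]
  rw [inv_smul_smul]

/-- two elements of the fixer of `Fx r` which agree at a moved vector coincide -/
theorem IsRf.eq_of_smul {r s : H} (hr : IsRf V r) (hs : Fx V r ≤ Fx V s) {x : V}
    (hx : x ∉ Fx V r) (he : s • x = r • x) : s = r := by
  by_contra hne
  have h1 : r⁻¹ * s ≠ 1 := by
    intro h
    exact hne (inv_mul_eq_one.1 h).symm
  have h2 := hr.2 _ h1 (fun v hv => mem_mul (mem_inv hv) (hs hv))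
  apply hx
  rw [← h2, mem_Fx, mul_smul, he, inv_smul_smul]

theorem lemW (hb : Bin H V) {r s : H} (hr : IsRf V r) (hs : IsRf V s) {w : V} (hw : w ≠ 0)
    (h1 : w ∈ Wx V r) (h2 : w ∈ Wx V s) : r = s := by
  obtain ⟨x, hx⟩ := mem_Wx.1 h1
  obtain ⟨y, hy⟩ := mem_Wx.1 h2
  have hx' : r • x = x + w := by rw [← hx]; abel
  have hy' : s • y = y + w := by rw [← hy]; abel
  obtain ⟨h, hh⟩ := hb ({p | (p.1 - x ∈ Fx V r ∨ p.1 - y ∈ Fx V s) ∧ p.2 = p.1 + w}) (by
    rintro a ⟨ha | ha, h2⟩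
    · refine ⟨r, ?_⟩
      rw [h2]
      have : r • (a.1 - x) = a.1 - x := mem_Fx.1 ha
      rw [smul_sub, hx'] at this
      have e : r • a.1 = (r • a.1 - (x + w)) + (x + w) := by abel
      rw [e, this]; abel
    · refine ⟨s, ?_⟩
      rw [h2]
      have : s • (a.1 - y) = a.1 - y := mem_Fx.1 ha
      rw [smul_sub, hy'] at this
      have e : s • a.1 = (s • a.1 - (y + w)) + (y + w) := by abel
      rw [e, this]; abel) (by
    rintro a ⟨_, ha⟩ b ⟨_, hb⟩
    exact ⟨1, by rw [ha, hb, one_smul]; abel⟩)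
  have hhx : h • x = x + w := hh (x, x + w) ⟨Or.inl (by rw [sub_self]; exact zero_mem _), rfl⟩
  have hhy : h • y = y + w := hh (y, y + w) ⟨Or.inr (by rw [sub_self]; exact zero_mem _), rfl⟩
  have hxr : x ∉ Fx V r := fun h' => hw (by
    have := mem_Fx.1 h'
    rw [hx'] at this
    exact left_eq_add.1 this.symm)
  have hys : y ∉ Fx V s := fun h' => hw (by
    have := mem_Fx.1 h'
    rw [hy'] at this
    exact left_eq_add.1 this.symm)
  have hFr : Fx V r ≤ Fx V h := by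
    intro v hv
    have := hh (v + x, v + x + w) ⟨Or.inl (by simpa using hv), rfl⟩
    simp only [smul_add, hhx] at this
    rw [mem_Fx]
    have e : h • v = (h • v + (x + w)) - (x + w) := by abel
    rw [e, this]; abel
  have hFs : Fx V s ≤ Fx V h := by
    intro v hv
    have := hh (v + y, v + y + w) ⟨Or.inr (by simpa using hv), rfl⟩
    simp only [smul_add, hhy] at this
    rw [mem_Fx]
    have e : h • v = (h • v + (y + w)) - (y + w) := by abel
    rw [e, this]; abel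
  rw [← hr.eq_of_smul hFr hxr (by rw [hhx, hx']), hs.eq_of_smul hFs hys (by rw [hhy, hy'])]

theorem IsRf.addm (hb : Bin H V) {r : H} (hr : IsRf V r) (x : V) : x + r • x ∈ Fx V r := by
  by_cases hx : x ∈ Fx V r
  · have := mem_Fx.1 hx
    rw [this]
    exact add_mem hx hx
  · obtain ⟨g, hg1, hg2, hg3, hg4⟩ := swap hb (Fx V r : Set V) r (fun a ha => mem_Fx.1 ha) x
    have : g = r := hr.eq_of_smul (fun v hv => mem_Fx.2 (hg1 v hv)) hx hg2
    rw [mem_Fx, ← this]
    rw [← hg2] at hg4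
    exact hg4

theorem IsRf.sq (hb : Bin H V) {r : H} (hr : IsRf V r) : r * r = 1 := by
  apply eq_one_of (V := V)
  intro x
  have h := mem_Fx.1 (hr.addm hb x)
  rw [smul_add] at h
  rw [mul_smul]
  have : r • r • x = (r • x + r • r • x) - r • x := by abel
  rw [this, h]; abel

theorem IsRf.inv (hb : Bin H V) {r : H} (hr : IsRf V r) : r⁻¹ = r :=
  inv_eq_of_mul_eq_one_right (hr.sq hb)

theorem IsRf.smul_smul (hb : Bin H V) {r : H} (hr : IsRf V r) (x : V) : r • r • x = x := by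
  rw [← mul_smul, hr.sq hb, one_smul]

theorem IsRf.neg (hb : Bin H V) {r : H} (hr : IsRf V r) {w : V} (hw : w ∈ Wx V r) :
    r • w = -w := by
  obtain ⟨x, rfl⟩ := mem_Wx.1 hw
  rw [smul_sub, hr.smul_smul hb]; abel

theorem comm_of_Fx (hb : Bin H V) {r s : H} (hr : IsRf V r) (hs : IsRf V s)
    (h : Fx V r = Fx V s) : r * s = s * r := by
  by_cases h1 : r * s = 1
  · have : r = s := by rw [← hs.inv hb]; exact eq_inv_of_mul_eq_one_left h1
    rw [this]
  · have h2 : IsRf V (r * s) := hr.of_le h1 (fun v hv => mem_mul hv (h ▸ hv))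
    have h3 := h2.sq hb
    have h4 : (r * s)⁻¹ = r * s := inv_eq_of_mul_eq_one_right h3
    rw [mul_inv_rev, hr.inv hb, hs.inv hb] at h4
    exact h4.symm

theorem eq_of_Fx_odd (hb : Bin H V) (h2 : ∀ v : V, v + v = 0 → v = 0) {r s : H}
    (hr : IsRf V r) (hs : IsRf V s) (h : Fx V r = Fx V s) : r = s := by
  by_contra hne
  have h1 : r * s ≠ 1 := fun h1 => hne (by rw [← hs.inv hb]; exact eq_inv_of_mul_eq_one_left h1)
  have h3 : IsRf V (r * s) := hr.of_le h1 (fun v hv => mem_mul hv (h ▸ hv))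
  have h4 : Fx V (r * s) = Fx V r := hr.2 _ h1 (fun v hv => mem_mul hv (h ▸ hv))
  obtain ⟨x, hx⟩ := hr.exists_notMem
  have e1 := hr.addm hb (s • x)
  have e2 := hs.addm hb x
  have e3 := h3.addm hb x
  rw [h4, mul_smul] at e3
  rw [← h] at e2
  have e4 : x + x ∈ Fx V r := by
    have : x + x = (x + s • x) + (x + r • s • x) - (s • x + r • s • x) := by abel
    rw [this]
    exact sub_mem (add_mem e2 e3) e1
  rw [mem_Fx, smul_add] at e4
  apply hx
  rw [mem_Fx]
  have := h2 (r • x - x) (by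
    have : r • x - x + (r • x - x) = (r • x + r • x) - (x + x) := by abel
    rw [this, e4, sub_self])
  exact sub_eq_zero.1 this

theorem star (hb : Bin H V) {r h : H} (hr : IsRf V r) {z : V} (hz : z ∉ Fx V r)
    (he : h • z = r • z) : Fx V h ≤ Fx V r := by
  obtain ⟨c, hc1, hc2⟩ := plem hb r z
  have h1 : Fx V r ≤ Fx V c := hc2 r rfl
  have : c = r := hr.eq_of_smul h1 hz hc1
  rw [← this]
  exact hc2 h he

theorem star2 (hb : Bin H V) {r k : H} (hr : IsRf V r) {z : V} (hz : z ∉ Fx V r)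
    (hk : k • z = z) {v : V} (hv : (r * k) • v = v) : v ∈ Fx V r ∧ k • v = v := by
  have h1 : Fx V (r * k) ≤ Fx V r := star hb hr hz (by rw [mul_smul, hk])
  have h2 : v ∈ Fx V r := h1 (mem_Fx.2 hv)
  refine ⟨h2, ?_⟩
  have h3 : r⁻¹ • v = v := mem_Fx.1 (mem_inv h2)
  rw [mul_smul] at hv
  have := smul_inv_eq hv
  rw [h3] at this
  exact this.symm

theorem comm_fix (hb : Bin H V) {r s : H} (hr : IsRf V r) (hs : IsRf V s) (hne : r ≠ s)
    (hc : r * s = s * r) {w : V} (hw : w ∈ Wx V s) : r • w = w := by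
  by_contra hcon
  apply hne
  apply lemW hb hr hs (sub_ne_zero.2 hcon) (sub_mem_Wx r w)
  refine sub_mem ?_ hw
  obtain ⟨x, rfl⟩ := mem_Wx.1 hw
  refine mem_Wx.2 ⟨r • x, ?_⟩
  rw [smul_sub, ← mul_smul, ← mul_smul, hc]

theorem comm_of_mem (hb : Bin H V) {r h : H} (hr : IsRf V r) {w : V} (hw0 : w ≠ 0)
    (hw : w ∈ Wx V r) (hh : h • w ∈ Wx V r) : h * r = r * h := by
  have h1 : h * r * h⁻¹ = r := by
    apply lemW hb (hr.conj h) hr (w := h • w) _ _ hh
    · intro h'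
      exact hw0 ((smul_eq_zero_iff_eq h).1 h')
    · rw [mem_Wx_conj, inv_smul_smul]
      exact hw
  calc h * r = (h * r * h⁻¹) * h := by group
    _ = r * h := by rw [h1]

theorem comm_of_fix (hb : Bin H V) {r h : H} (hr : IsRf V r) {w : V} (hw0 : w ≠ 0)
    (hw : w ∈ Wx V r) (hh : h • w = w) : h * r = r * h :=
  comm_of_mem hb hr hw0 hw (by rw [hh]; exact hw)

theorem smul_mem_Wx {h r : H} (hc : h * r = r * h) {w : V} (hw : w ∈ Wx V r) : h • w ∈ Wx V r := by
  obtain ⟨x, rfl⟩ := mem_Wx.1 hw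
  refine mem_Wx.2 ⟨h • x, ?_⟩
  rw [smul_sub, ← mul_smul, ← mul_smul, hc]

theorem smul_mem_Fx {h r : H} (hc : h * r = r * h) {w : V} (hw : w ∈ Fx V r) : h • w ∈ Fx V r := by
  rw [mem_Fx] at *
  rw [← mul_smul, ← hc, mul_smul, hw]

theorem nc_disj (hb : Bin H V) {r s : H} (hs : IsRf V s)
    (hnc : r * s ≠ s * r) {w : V} (hw : w ∈ Wx V s) (hf : r • w = w) : w = 0 := by
  by_contra h0
  exact hnc (comm_of_fix hb hs h0 hw hf)

/-- a regular vector forces exponent two -/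
theorem exp_two (hb : Bin H V) (X : Set V) (x : V)
    (hreg : ∀ h : H, (∀ a ∈ X, h • a = a) → h • x = x → h = 1) (k : H)
    (hk : ∀ a ∈ X, k • a = a) : k * k = 1 := by
  obtain ⟨g, hg1, hg2, hg3, _⟩ := swap hb X k hk x
  have hkg : k = g := by
    have : g⁻¹ * k = 1 := hreg _ (fun a ha => by
      rw [mul_smul, hk a ha]
      exact smul_inv_eq (hg1 a ha)) (by rw [mul_smul, ← hg2, inv_smul_smul])
    exact (inv_mul_eq_one.1 this).symm
  apply hreg
  · intro a ha
    rw [mul_smul, hk a ha, hk a ha]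
  · rw [mul_smul]
    rw [← hkg] at hg3
    exact hg3

end B

end Cfsg.Agent.H27.BPA
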