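import Cfsg.Agent.H27.BPA9

set_option autoImplicit false
set_option linter.unusedSectionVars false
set_option linter.deprecated false
set_option linter.unusedVariables false

/-!
S5753: the middle theorem modulo uniqueness.
-/

namespace Cfsg.Agent.H27.BPA

variable {H V : Type*} [Group H] [AddCommGroup V] [DistribMulAction H V]

theorem card_prime_pow {p : ℕ} [Fact p.Prime] [Finite V] (hp : ∀ v : V, p • v = 0)
    (M : AddSubgroup V) : ∃ n : ℕ, Nat.card M = p ^ n := by
  have h0 : Nat.card M ≠ 0 := (Nat.card_pos).ne'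
  refine ⟨(Nat.card M).primeFactorsList.length, ?_⟩
  apply Nat.eq_prime_pow_of_unique_prime_dvd h0
  intro d hd hdvd
  have : Fact d.Prime := ⟨hd⟩
  obtain ⟨x, hx⟩ := exists_prime_addOrderOf_dvd_card' (G := M) d hdvd
  have h1 : p • x = 0 := Subtype.ext (hp x)
  have h2 := addOrderOf_dvd_of_nsmul_eq_zero h1
  rw [hx] at h2
  exact (Nat.prime_dvd_prime_iff_eq hd (Fact.out (p := p.Prime))).1 h2

section

variable [FaithfulSMul H V] {p : ℕ} [Fact p.Prime] [Finite V] [Finite H]

theorem no_fix_mul (hb : Bin H V) {σ τ : H} (hσ : IsRf V σ) (hτ : IsRf V τ)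
    (hne : Fx V σ ≠ Fx V τ) (hinf : Fx V σ ⊓ Fx V τ = ⊥) {v : V} (hv : (σ * τ) • v = v) :
    v = 0 := by
  obtain ⟨z, hz1, hz2⟩ : ∃ z, z ∈ Fx V τ ∧ z ∉ Fx V σ := by
    by_contra hcon
    push Not at hcon
    exact hne (hτ.2 σ hσ.1 hcon)
  have := star2 hb hσ hz2 (mem_Fx.1 hz1) hv
  have h2 : v ∈ Fx V σ ⊓ Fx V τ := ⟨this.1, mem_Fx.2 this.2⟩
  rw [hinf] at h2
  exact h2

/-- one dihedral point, trivial: the dihedral case. -/
theorem dih (hb : Bin H V) (hp : ∀ v : V, p • v = 0) {r s : H} (h : NC V r s)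
    (hA : Fx V r ⊓ Fx V s = ⊥) : Dih p H V := by
  classical
  have hmemR : ∀ t : H, t ∈ RR (H := H) (Fx V r ⊓ Fx V s) ↔ IsRf V t := by
    intro t
    refine ⟨fun ht => ht.1, fun ht => ⟨ht, ?_⟩⟩
    rw [hA]; exact bot_le
  have hcardV := card_A hb hp h.hr h.hs h.nc
  rw [hA, AddSubgroup.card_bot, one_mul] at hcardV
  obtain ⟨n, hn⟩ := card_prime_pow (V := V) hp (Wx V r)
  have hn1 : 1 ≤ n := by
    rcases Nat.eq_zero_or_pos n with h0 | h0
    · exfalso
      have := two_le_card_Wx (V := V) h.hr.1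
      rw [hn, h0, pow_zero] at this
      omega
    · exact h0
  have hFx : ∀ t : H, IsRf V t → ∃ v : V, v ≠ 0 ∧ t • v = v := by
    intro t ht
    have h1 := card_Fx_RR hb hp h ((hmemR t).2 ht)
    rw [hA, AddSubgroup.card_bot, one_mul] at h1
    have h2 : Fx V t ≠ ⊥ := by
      intro h0
      rw [h0, AddSubgroup.card_bot] at h1
      have := two_le_card_Wx (V := V) h.hr.1
      omega
    obtain ⟨v, hv, hv0⟩ := exists_ne_of h2
    exact ⟨v, hv0, mem_Fx.1 hv⟩
  have hfree : ∀ σ τ : H, IsRf V σ → IsRf V τ → σ ≠ τ → ∀ v : V, (σ * τ) • v = v → v = 0 := by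
    intro σ τ hσ hτ hne v hv
    have hF : Fx V σ ≠ Fx V τ := by
      intro he
      rcases parity hp with h2 | h2
      · exact hne (L2 hb hp h2 h ((hmemR σ).2 hσ) ((hmemR τ).2 hτ) he)
      · exact hne (eq_of_Fx_odd hb h2 hσ hτ he)
    refine no_fix_mul hb hσ hτ hF ?_ hv
    rw [inf_eq hb hp h ((hmemR σ).2 hσ) ((hmemR τ).2 hτ) hF, hA]
  -- a product of two reflections is not a reflection
  have hnR : ∀ σ τ : H, IsRf V σ → IsRf V τ → ¬ IsRf V (σ * τ) := by
    intro σ τ hσ hτ hR
    by_cases he : σ = τ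
    · rw [he, hτ.sq hb] at hR
      exact hR.1 rfl
    · obtain ⟨v, hv0, hv⟩ := hFx _ hR
      exact hv0 (hfree σ τ hσ hτ he v hv)
  have hF : ∀ k τ : H, IsRf V τ → IsRf V k ∨ ∃ σ : H, IsRf V σ ∧ k = σ * τ := by
    intro k τ hτ
    obtain ⟨v, hv0, hv⟩ := hFx τ hτ
    obtain ⟨σ, hσ, he⟩ := orb hb hp h (k := k) (by rw [hA]; exact bot_le) v
    have h1 : (σ⁻¹ * k) • v = v := by rw [mul_smul, ← he, inv_smul_smul]
    rcases fixer hb hp h ((hmemR τ).2 hτ) (mem_Fx.2 hv) (by rw [hA]; exact hv0) (g := σ⁻¹ * k)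
      (by rw [hA]; exact bot_le) h1 with h2 | h2
    · left
      rw [← inv_mul_eq_one.1 h2]
      exact hσ.1
    · right
      exact ⟨σ, hσ.1, by rw [← h2]; group⟩
  have hmul3 : ∀ a b c : H, IsRf V a → IsRf V b → IsRf V c → IsRf V (a * b * c) := by
    intro a b c ha hb' hc
    rcases hF (a * b * c) c hc with h1 | ⟨σ, hσ, h1⟩
    · exact h1
    · exfalso
      have h2 : a * b = σ := mul_right_cancel h1
      exact hnR a b ha hb' (h2 ▸ hσ)
  have hrr := h.hr.sq hb
  have hri := h.hr.inv hb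
  -- the subgroup
  let C : Subgroup H :=
    { carrier := {k | IsRf V (k * r)}
      one_mem' := by
        show IsRf V (1 * r)
        rw [one_mul]; exact h.hr
      mul_mem' := by
        intro a b ha hb'
        show IsRf V (a * b * r)
        have := hmul3 (a * r) r (b * r) ha h.hr hb'
        have e : a * r * r * (b * r) = a * b * r := by
          rw [mul_assoc a r r, hrr, mul_one, mul_assoc]
        rwa [e] at this
      inv_mem' := by
        intro a ha
        show IsRf V (a⁻¹ * r)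
        have h1 : (a * r)⁻¹ = a * r := IsRf.inv hb ha
        have h2 : a⁻¹ = r * (a * r) := by
          rw [← h1, mul_inv_rev, hri, ← mul_assoc, hrr, one_mul]
        rw [h2]
        exact hmul3 r (a * r) r h.hr ha h.hr }
  have memC : ∀ k : H, k ∈ C ↔ IsRf V (k * r) := fun k => Iff.rfl
  have hinvt : ∀ c ∈ C, r * c * r = c⁻¹ := by
    intro c hc
    have h1 : (c * r)⁻¹ = c * r := IsRf.inv hb ((memC c).1 hc)
    rw [mul_inv_rev, hri] at h1
    -- r c⁻¹ = c r
    calc r * c * r = r * (c * r) := by rw [mul_assoc]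
      _ = r * (r * c⁻¹) := by rw [h1]
      _ = c⁻¹ := by rw [← mul_assoc, hrr, one_mul]
  refine ⟨n, C, r, hn1, ?_, ?_, ?_, ?_, ?_, hrr, hinvt, ?_, hFx r h.hr⟩
  · rw [← hn]; exact hcardV.symm
  · intro x hx y hy
    have e1 := hinvt _ (mul_mem hx hy)
    have e2 : r * (x * y) * r = (r * x * r) * (r * y * r) := by
      calc r * (x * y) * r = r * x * 1 * y * r := by group
        _ = r * x * (r * r) * y * r := by rw [hrr]
        _ = _ := by simp only [mul_assoc]
    rw [e2, hinvt x hx, hinvt y hy, ← mul_inv_rev] at e1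
    exact (inv_injective e1).symm
  · have e : Nat.card C = (SS (H := H) (Fx V r ⊓ Fx V s)).card := by
      rw [← Set.ncard_coe_finset, ← Nat.card_coe_set_eq]
      apply Nat.card_congr
      refine ⟨fun k => ⟨k.1 * r, ?_⟩, fun t => ⟨t.1 * r, ?_⟩, fun k => ?_, fun t => ?_⟩
      · exact mem_SS.2 ((hmemR _).2 k.2)
      · rw [memC, mul_assoc, hrr, mul_one]
        exact (mem_SS.1 t.2).1
      · apply Subtype.ext
        simp only [mul_assoc, hrr, mul_one]
      · apply Subtype.ext
        simp only [mul_assoc, hrr, mul_one]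
    rw [e, card_SS hb hp h, hn]
  · intro c hc hc1 v hv
    have h1 : c = (c * r) * r := by rw [mul_assoc, hrr, mul_one]
    rw [h1] at hv
    refine hfree (c * r) r hc h.hr ?_ v hv
    intro he
    exact hc1 (mul_eq_right.1 he)
  · intro hrC
    rw [memC, hrr] at hrC
    exact hrC.1 rfl
  · intro k
    rcases hF k r h.hr with h1 | ⟨σ, hσ, h1⟩
    · right
      rw [memC, mul_assoc, hrr, mul_one]
      exact h1
    · left
      rw [memC, h1, mul_assoc, hrr, mul_one]
      exact hσ

theorem card_prime_of_irr [Nontrivial V] (hp : ∀ v : V, p • v = 0)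
    (hinv : ∀ M : AddSubgroup V, M = ⊥ ∨ M = ⊤) : Nat.card V = p := by
  obtain ⟨v, hv⟩ := exists_ne (0 : V)
  rcases hinv (AddSubgroup.zmultiples v) with h | h
  · exact absurd (AddSubgroup.zmultiples_eq_bot.1 h) hv
  · have h1 : addOrderOf v = p := addOrderOf_eq_prime (hp v) hv
    rw [← h1, ← Nat.card_zmultiples, h, AddSubgroup.card_top]

theorem middle_of_uniq [Nontrivial V] (hb : Bin H V) (hirr : Irr H V) (hp : ∀ v : V, p • v = 0)
    (hU : ∀ s r t : H, NC V s r → NC V s t → Fx V s ⊓ Fx V r = Fx V s ⊓ Fx V t) :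
    (Nat.card V = p ∧ Nat.card H ≤ 2) ∨ Dih p H V := by
  classical
  by_cases hNC : ∃ r s : H, NC V r s
  · obtain ⟨r, s, h⟩ := hNC
    right
    exact dih hb hp h (one_point hb hp hU hirr ⟨r, s, h, rfl⟩)
  left
  have hcomm : ∀ r s : H, IsRf V r → IsRf V s → r * s = s * r := by
    intro r s hr hs
    by_contra hc
    exact hNC ⟨r, s, hr, hs, hc⟩
  by_cases hH : ∃ h : H, h ≠ 1
  swap
  · push Not at hH
    constructor
    · apply card_prime_of_irr hp
      intro M
      exact hirr M (fun h v hv => by rw [hH h, one_smul]; exact hv)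
    · have : Subsingleton H := ⟨fun a b => by rw [hH a, hH b]⟩
      rw [Nat.card_of_subsingleton (1 : H)]
      norm_num
  obtain ⟨h0, hh0⟩ := hH
  obtain ⟨r, hr, _⟩ := exists_rf (V := V) hh0
  -- the intersection of all the fixed spaces
  have hM : ∀ v : V, (∀ σ : H, IsRf V σ → v ∈ Fx V σ) → v = 0 := by
    set M : AddSubgroup V := sInf {P | ∃ σ : H, IsRf V σ ∧ P = Fx V σ} with hM
    have hmem : ∀ v : V, v ∈ M ↔ ∀ σ : H, IsRf V σ → v ∈ Fx V σ := by
      intro v
      rw [hM, AddSubgroup.mem_sInf]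
      constructor
      · intro h σ hσ
        exact h _ ⟨σ, hσ, rfl⟩
      · rintro h P ⟨σ, hσ, rfl⟩
        exact h σ hσ
    rcases hirr M (by
      intro h v hv
      rw [hmem] at hv ⊢
      intro σ hσ
      have := hv (h⁻¹ * σ * h⁻¹⁻¹) (hσ.conj h⁻¹)
      rw [mem_Fx_conj, inv_inv] at this
      exact this) with h | h
    · intro v hv
      rw [← hmem, h] at hv
      exact hv
    · exfalso
      obtain ⟨x, hx⟩ := hr.exists_notMem
      apply hx
      have : x ∈ M := by rw [h]; exact AddSubgroup.mem_top x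
      exact (hmem x).1 this r hr
  rcases parity hp with h2 | h2
  · exfalso
    have hneg : ∀ v : V, -v = v := fun v => neg_eq_of_add_eq_zero_left (h2 v)
    obtain ⟨w, hw, hw0⟩ := exists_ne_of (Wx_ne_bot (V := V) hr.1)
    apply hw0
    apply hM
    intro σ hσ
    rw [mem_Fx]
    by_cases he : σ = r
    · rw [he, hr.neg hb hw, hneg]
    · exact comm_fix hb hσ hr he (hcomm σ r hσ hr) hw
  · -- a regular vector
    have hch : ∀ σ : H, ∃ w : V, IsRf V σ → w ∈ Wx V σ ∧ w ≠ 0 := by
      intro σ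
      by_cases hσ : IsRf V σ
      · obtain ⟨w, hw, hw0⟩ := exists_ne_of (Wx_ne_bot (V := V) hσ.1)
        exact ⟨w, fun _ => ⟨hw, hw0⟩⟩
      · exact ⟨0, fun h => absurd h hσ⟩
    choose ww hww using hch
    set T : Finset H := (Set.toFinite {σ : H | IsRf V σ}).toFinset with hT
    have memT : ∀ σ : H, σ ∈ T ↔ IsRf V σ := fun σ => by simp [hT]
    set y : V := ∑ σ ∈ T, ww σ with hy
    have hyσ : ∀ σ : H, IsRf V σ → σ • y ≠ y := by
      intro σ hσ he
      have h3 : y - ww σ ∈ Fx V σ := by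
        rw [hy, ← Finset.add_sum_erase T ww ((memT σ).2 hσ), add_sub_cancel_left]
        refine sum_mem (fun τ hτ => ?_)
        rw [Finset.mem_erase, memT] at hτ
        exact mem_Fx.2 (comm_fix hb hσ hτ.2 hτ.1.symm (hcomm σ τ hσ hτ.2) (hww τ hτ.2).1)
      have h4 : ww σ ∈ Fx V σ ⊓ Wx V σ := by
        refine ⟨?_, (hww σ hσ).1⟩
        have h5 : y - (y - ww σ) ∈ Fx V σ := sub_mem (mem_Fx.2 he) h3
        rw [sub_sub_cancel] at h5
        exact h5
      rw [Fx_inf_Wx_odd hb h2 hσ] at h4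
      exact (hww σ hσ).2 h4
    have hreg : ∀ g : H, (∀ a ∈ (∅ : Set V), g • a = a) → g • y = y → g = 1 := by
      intro g _ hg2
      by_contra hg
      obtain ⟨ρ, hρ1, hρ2⟩ := exists_rf (V := V) hg
      exact hyσ ρ hρ1 (mem_Fx.1 (hρ2 (mem_Fx.2 hg2)))
    have hsq : ∀ g : H, g * g = 1 := fun g =>
      exp_two hb ∅ y hreg g (fun a ha => absurd ha (Set.notMem_empty a))
    have hab : ∀ g k : H, g * k = k * g := fun g k => comm_of_sq (hsq g) (hsq k) (hsq _)
    have hFr : Fx V r = ⊥ := by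
      rcases hirr (Fx V r) (fun h v hv => smul_mem_Fx (hab h r) hv) with h | h
      · exact h
      · exfalso
        obtain ⟨x, hx⟩ := hr.exists_notMem
        apply hx
        rw [h]; exact AddSubgroup.mem_top x
    have hall : ∀ g : H, g = 1 ∨ g = r := by
      intro g
      by_cases hg : g = 1
      · exact Or.inl hg
      · right
        have hle : Fx V r ≤ Fx V g := by rw [hFr]; exact bot_le
        exact eq_of_Fx_odd hb h2 (hr.of_le hg hle) hr (hr.2 g hg hle)
    constructor
    · apply card_prime_of_irr hp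
      intro M
      apply hirr M
      intro g v hv
      rcases hall g with rfl | rfl
      · rw [one_smul]; exact hv
      · have h3 := hr.addm hb v
        rw [hFr] at h3
        have h4 : g • v = -v := eq_neg_of_add_eq_zero_right h3
        rw [h4]; exact neg_mem hv
    · have hsub : (Set.univ : Set H) ⊆ {1, r} := by
        intro g _
        rcases hall g with h | h
        · exact Or.inl h
        · exact Or.inr h
      calc Nat.card H = (Set.univ : Set H).ncard := (Set.ncard_univ H).symm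
        _ ≤ ({1, r} : Set H).ncard := Set.ncard_le_ncard hsub (Set.toFinite _)
        _ ≤ ({r} : Set H).ncard + 1 := Set.ncard_insert_le 1 {r}
        _ = 2 := by rw [Set.ncard_singleton]

end

end Cfsg.Agent.H27.BPA
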