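import Cfsg.Agent.H27.BPA1

set_option autoImplicit false
set_option linter.unusedSectionVars false
set_option linter.deprecated false

/-!
S5753: product of two non-commuting reflections, the decomposition.
-/

namespace Cfsg.Agent.H27.BPA

theorem card_sup_inf {V : Type*} [AddCommGroup V] [Finite V] (M N : AddSubgroup V) :
    Nat.card ↥(M ⊔ N) * Nat.card ↥(M ⊓ N) = Nat.card M * Nat.card N := by
  have h1 := AddSubgroup.relIndex_sup_right (H := M) (K := N)
  have h2 := AddSubgroup.card_mul_index (N.addSubgroupOf (M ⊔ N))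
  have h3 := AddSubgroup.card_mul_index (N.addSubgroupOf M)
  have h4 : Nat.card (N.addSubgroupOf (M ⊔ N)) = Nat.card N :=
    Nat.card_congr (AddSubgroup.addSubgroupOfEquivOfLe le_sup_right).toEquiv
  have h5 : Nat.card (N.addSubgroupOf M) = Nat.card ↥(M ⊓ N) := by
    rw [← AddSubgroup.inf_addSubgroupOf_left]
    exact Nat.card_congr (AddSubgroup.addSubgroupOfEquivOfLe inf_le_left).toEquiv
  rw [AddSubgroup.relIndex, AddSubgroup.relIndex] at h1
  rw [h4, h1] at h2
  rw [h5] at h3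
  rw [← h2, ← h3]; ring

theorem card_sup_of_disj {V : Type*} [AddCommGroup V] [Finite V] {M N : AddSubgroup V}
    (h : M ⊓ N = ⊥) : Nat.card ↥(M ⊔ N) = Nat.card M * Nat.card N := by
  have := card_sup_inf M N
  rw [h] at this
  simpa using this

theorem card_le_of {V : Type*} [AddCommGroup V] [Finite V] {M N : AddSubgroup V} (h : M ≤ N) :
    Nat.card M ≤ Nat.card N := Nat.card_le_card_of_injective _ (AddSubgroup.inclusion_injective h)

theorem eq_of_card {V : Type*} [AddCommGroup V] [Finite V] {M N : AddSubgroup V} (h : M ≤ N)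
    (hc : Nat.card N ≤ Nat.card M) : M = N :=
  AddSubgroup.eq_of_le_of_card_ge h hc

theorem disj_iff {V : Type*} [AddCommGroup V] {M N : AddSubgroup V} :
    M ⊓ N = ⊥ ↔ ∀ v ∈ M, v ∈ N → v = 0 := by
  constructor
  · intro h v h1 h2
    have : v ∈ M ⊓ N := ⟨h1, h2⟩
    rw [h] at this
    exact this
  · intro h
    rw [eq_bot_iff]
    rintro v ⟨h1, h2⟩
    exact h v h1 h2

theorem exists_ne_of {V : Type*} [AddCommGroup V] {M : AddSubgroup V} (h : M ≠ ⊥) :
    ∃ v ∈ M, v ≠ 0 := by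
  by_contra hcon
  push Not at hcon
  exact h ((eq_bot_iff).2 (fun v hv => hcon v hv))

variable {H V : Type*} [Group H] [AddCommGroup V] [DistribMulAction H V]

theorem dvd_card {p : ℕ} [Fact p.Prime] [Finite V] (hp : ∀ v : V, p • v = 0) {M : AddSubgroup V}
    (hM : M ≠ ⊥) : p ∣ Nat.card M := by
  obtain ⟨v, hv, h0⟩ := exists_ne_of hM
  have h1 : addOrderOf (⟨v, hv⟩ : M) = p := by
    apply addOrderOf_eq_prime
    · apply Subtype.ext
      exact hp v
    · intro h
      exact h0 (congrArg Subtype.val h)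
  rw [← h1]
  exact addOrderOf_dvd_natCard _

/-- fixed points of an element of `p`-power order -/
theorem pfix {p : ℕ} [Fact p.Prime] [Finite V] (hp : ∀ v : V, p • v = 0) {M : AddSubgroup V}
    (hM : M ≠ ⊥) (k : H) {n : ℕ} (hk : k ^ p ^ n = 1) (hinv : ∀ v ∈ M, k • v ∈ M) :
    ∃ w ∈ M, w ≠ 0 ∧ k • w = w := by
  have hinv2 : ∀ g ∈ Subgroup.zpowers k, ∀ v ∈ M, g • v ∈ M := by
    intro g hg v hv
    have hfin : IsOfFinOrder k := isOfFinOrder_iff_pow_eq_one.2
      ⟨p ^ n, pow_pos (Fact.out (p := p.Prime)).pos n, hk⟩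
    obtain ⟨i, rfl⟩ := (hfin.mem_powers_iff_mem_zpowers.2 hg)
    simp only
    induction i with
    | zero => simpa using hv
    | succ i ih =>
      rw [pow_succ', mul_smul]
      exact hinv _ (ih ⟨i, by simp⟩)
  let _ : MulAction (Subgroup.zpowers k) M :=
    { smul := fun g w => ⟨(g : H) • (w : V), hinv2 g g.2 w w.2⟩
      one_smul := fun w => Subtype.ext (one_smul H (w : V))
      mul_smul := fun a b w => Subtype.ext (mul_smul (a : H) (b : H) (w : V)) }
  have hP : IsPGroup p (Subgroup.zpowers k) := by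
    rintro ⟨g, hg⟩
    obtain ⟨i, rfl⟩ := Subgroup.mem_zpowers_iff.1 hg
    refine ⟨n, Subtype.ext ?_⟩
    show (k ^ i) ^ p ^ n = 1
    rw [← zpow_natCast, ← zpow_mul, mul_comm, zpow_mul, zpow_natCast, hk, one_zpow]
  obtain ⟨b, hb1, hb2⟩ := hP.exists_fixed_point_of_prime_dvd_card_of_fixed_point (α := M)
    (dvd_card hp hM) (a := 0) (fun g => Subtype.ext (smul_zero (g : H)))
  refine ⟨b, b.2, fun h => hb2 (Subtype.ext h.symm), ?_⟩
  have := hb1 ⟨k, Subgroup.mem_zpowers k⟩
  exact congrArg Subtype.val this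

theorem Wx_ne_bot [FaithfulSMul H V] {h : H} (hne : h ≠ 1) : Wx V h ≠ ⊥ := by
  obtain ⟨v, hv⟩ := (ne_one_iff (V := V)).1 hne
  intro hbot
  apply hv
  rw [mem_Fx]
  have := sub_mem_Wx h v
  rw [hbot] at this
  exact sub_eq_zero.1 this

section

variable [FaithfulSMul H V] {p : ℕ} [Fact p.Prime] [Finite V]

theorem no_order_p (hb : Bin H V) (hp : ∀ v : V, p • v = 0) (h2 : ∀ v : V, v + v = 0 → v = 0)
    (u : H) (hu : u ^ p = 1) : u = 1 := by
  by_contra hne
  obtain ⟨y, hy1, hy2, hy3⟩ := pfix hp (Wx_ne_bot (V := V) hne) u (n := 1) (by rw [pow_one]; exact hu)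
    (fun v hv => smul_mem_Wx rfl hv)
  obtain ⟨x, hx⟩ := mem_Wx.1 hy1
  obtain ⟨g, hg1, hg2, hg3, _⟩ := swap hb (Fx V u : Set V) u (fun a ha => mem_Fx.1 ha) x
  have e1 : g • y = y := hg1 y (mem_Fx.2 hy3)
  have e2 : g • y = -y := by
    rw [← hx, smul_sub, hg3, hg2]; abel
  apply hy2
  apply h2
  rw [e1] at e2
  nth_rw 1 [e2]
  rw [neg_add_cancel]

theorem rf_mul_pow {r s : H} (hb : Bin H V) (hr : IsRf V r) (hs : IsRf V s) (n : ℕ) :
    IsRf V (r * (r * s) ^ n) := by
  induction n using Nat.twoStepInduction with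
  | zero => simpa using hr
  | one =>
    rw [pow_one, ← mul_assoc, hr.sq hb, one_mul]
    exact hs
  | more n ih1 _ =>
    have := ih1.conj (r * s)⁻¹
    have e : (r * s)⁻¹ * (r * (r * s) ^ n) * (r * s)⁻¹⁻¹ = r * (r * s) ^ (n + 2) := by
      rw [inv_inv, mul_inv_rev, hr.inv hb, hs.inv hb, pow_add, pow_two]
      have : s * r * (r * (r * s) ^ n) * (r * s) = s * (r * r) * ((r * s) ^ n * (r * s)) := by
        group
      rw [this, hr.sq hb, mul_one]
      have e2 : (r * s) ^ n * (r * s * (r * s)) = (r * s) * ((r * s) ^ n * (r * s)) := by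
        rw [← pow_two, ← pow_add, ← pow_succ, ← pow_succ']
      rw [e2]
      have e3 : r * (r * s * ((r * s) ^ n * (r * s))) = (r * r) * s * ((r * s) ^ n * (r * s)) := by
        simp only [mul_assoc]
      rw [e3, hr.sq hb, one_mul]
    rw [← e]
    exact this

/-- for `p = 2`, non-commuting reflections have a product of odd order -/
theorem two_aux (hb : Bin H V) {r s z : H} (hr : IsRf V r)
    (hs : IsRf V s) (hnc : r * s ≠ s * r) (hz1 : z ≠ 1) (hzs : z * s = s * z)
    (hR : IsRf V (r * z)) {v : V} (hv : z • v = v) (hvr : v ∉ Fx V r) : False := by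
  have h1 : Fx V (r * z) ≤ Fx V r := fun w hw => (star2 hb hr hvr hv (mem_Fx.1 hw)).1
  have h2 : Fx V r = Fx V (r * z) := hR.2 r hr.1 h1
  have h3 : Fx V r ≤ Fx V z := by
    intro w hw
    rw [h2] at hw
    exact mem_Fx.2 (star2 hb hr hvr hv (mem_Fx.1 hw)).2
  have h4 : IsRf V z := hr.of_le hz1 h3
  have h5 : Fx V z = Fx V r := hr.2 _ hz1 h3
  have hzs' : z ≠ s := by
    rintro rfl
    exact hnc (comm_of_Fx hb hr hs h5.symm)
  obtain ⟨w, hw, hw0⟩ := exists_ne_of (Wx_ne_bot (V := V) hs.1)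
  have h6 : z • w = w := comm_fix hb h4 hs hzs' hzs hw
  have h7 : w ∈ Fx V r := by rw [← h5]; exact mem_Fx.2 h6
  exact hw0 (nc_disj hb hs hnc hw (mem_Fx.1 h7))

theorem not_dvd [Finite H] (hb : Bin H V) (hp : ∀ v : V, p • v = 0) {r s : H} (hr : IsRf V r)
    (hs : IsRf V s) (hnc : r * s ≠ s * r) : ¬ p ∣ orderOf (r * s) := by
  intro hdvd
  obtain ⟨l, hl⟩ := hdvd
  have hne : r * s ≠ 1 := by
    intro h
    apply hnc
    have : r = s := by rw [← hs.inv hb]; exact eq_inv_of_mul_eq_one_left h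
    rw [this]
  have hzp : ((r * s) ^ l) ^ p = 1 := by
    rw [← pow_mul, mul_comm, ← hl, pow_orderOf_eq_one]
  have hm : orderOf (r * s) ≠ 0 := (orderOf_pos _).ne'
  have hlpos : 0 < l := by
    rcases Nat.eq_zero_or_pos l with h | h
    · rw [h, mul_zero] at hl; exact absurd hl hm
    · exact h
  have hz1 : (r * s) ^ l ≠ 1 := by
    intro h
    have h1 := Nat.le_of_dvd hlpos (orderOf_dvd_of_pow_eq_one h)
    have h2 := (Fact.out (p := p.Prime)).two_le
    nlinarith
  by_cases h2p : p = 2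
  · subst h2p
    have hzz : (r * s) ^ l * (r * s) ^ l = 1 := by rw [← pow_two]; exact hzp
    have hzi : ((r * s) ^ l)⁻¹ = (r * s) ^ l := inv_eq_of_mul_eq_one_right hzz
    have hcr : (r * s) ^ l * r = r * (r * s) ^ l := by
      have : r * (r * s) ^ l * r⁻¹ = ((r * s) ^ l)⁻¹ := by
        rw [← conj_pow, ← inv_pow, hr.inv hb, mul_inv_rev, hr.inv hb, hs.inv hb]
        congr 1
        rw [← mul_assoc, hr.sq hb, one_mul]
      rw [hzi] at this
      calc (r * s) ^ l * r = (r * (r * s) ^ l * r⁻¹) * r := by rw [this]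
        _ = _ := by group
    have hcs : (r * s) ^ l * s = s * (r * s) ^ l := by
      have : s * (r * s) ^ l * s⁻¹ = ((r * s) ^ l)⁻¹ := by
        rw [← conj_pow, ← inv_pow, hs.inv hb, mul_inv_rev, hr.inv hb, hs.inv hb]
        congr 1
        rw [mul_assoc, mul_assoc, hs.sq hb, mul_one]
      rw [hzi] at this
      calc (r * s) ^ l * s = (s * (r * s) ^ l * s⁻¹) * s := by rw [this]
        _ = _ := by group
    have hR1 := rf_mul_pow hb hr hs l
    have hR2 : IsRf V (s * (r * s) ^ l) := by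
      have := rf_mul_pow hb hs hr l
      have e : (s * r) ^ l = (r * s) ^ l := by
        rw [← hzi, ← inv_pow, mul_inv_rev, hr.inv hb, hs.inv hb]
      rwa [e] at this
    obtain ⟨w, hw1, hw2, hw3⟩ := pfix (p := 2) hp (Wx_ne_bot (V := V) hr.1) ((r * s) ^ l) (n := 1)
      (by rw [pow_one]; exact hzp) (fun v hv => smul_mem_Wx hcr hv)
    have hws : w ∉ Fx V s := fun h => hw2 (nc_disj hb hr (fun h' => hnc h'.symm) hw1 (mem_Fx.1 h))
    exact two_aux hb hs hr (fun h' => hnc h'.symm) hz1 hcr hR2 hw3 hws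
  · refine hz1 (no_order_p hb hp ?_ _ hzp)
    intro v hv
    have h1 : (2 : ℕ) • v = 0 := by rw [two_nsmul]; exact hv
    have hcop : Nat.Coprime 2 p := by
      rw [Nat.coprime_primes Nat.prime_two (Fact.out (p := p.Prime))]
      exact fun h => h2p h.symm
    have h3 := addOrderOf_dvd_of_nsmul_eq_zero h1
    have h4 := addOrderOf_dvd_of_nsmul_eq_zero (hp v)
    have h5 := Nat.dvd_gcd h3 h4
    rw [hcop] at h5
    exact AddMonoid.addOrderOf_eq_one_iff.1 (Nat.dvd_one.1 h5)

end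

end Cfsg.Agent.H27.BPA
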