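import Cfsg.Agent.H27.BPA2

set_option autoImplicit false
set_option linter.unusedSectionVars false
set_option linter.deprecated false

/-!
S5753: averaging and the decomposition for two non-commuting reflections.
-/

namespace Cfsg.Agent.H27.BPA

variable {H V : Type*} [Group H] [AddCommGroup V] [DistribMulAction H V]

theorem tors {p : ℕ} [Fact p.Prime] (hp : ∀ v : V, p • v = 0) {n : ℕ} (hn : ¬ p ∣ n) {x : V}
    (hx : n • x = 0) : x = 0 := by
  have h3 := addOrderOf_dvd_of_nsmul_eq_zero hx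
  have h4 := addOrderOf_dvd_of_nsmul_eq_zero (hp x)
  have h5 := Nat.dvd_gcd h4 h3
  rw [(Nat.Prime.coprime_iff_not_dvd (Fact.out (p := p.Prime))).2 hn] at h5
  exact AddMonoid.addOrderOf_eq_one_iff.1 (Nat.dvd_one.1 h5)

section

variable [Finite H]

/-- sum over a subgroup -/
noncomputable def av (D : Subgroup H) (v : V) : V :=
  ∑ g ∈ (Set.toFinite (D : Set H)).toFinset, g • v

theorem av_sub (D : Subgroup H) (v w : V) : av D (v - w) = av D v - av D w := by
  simp only [av, smul_sub, Finset.sum_sub_distrib]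

theorem av_add (D : Subgroup H) (v w : V) : av D (v + w) = av D v + av D w := by
  simp only [av, smul_add, Finset.sum_add_distrib]

theorem av_smul (D : Subgroup H) {h : H} (hh : h ∈ D) (v : V) : av D (h • v) = av D v := by
  unfold av
  refine Finset.sum_bij (fun g _ => g * h) ?_ ?_ ?_ ?_
  · intro g hg
    simp only [Set.Finite.mem_toFinset, SetLike.mem_coe] at hg ⊢
    exact mul_mem hg hh
  · intro a _ b _ hab
    exact mul_right_cancel hab
  · intro b hb
    simp only [Set.Finite.mem_toFinset, SetLike.mem_coe] at hb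
    refine ⟨b * h⁻¹, ?_, by group⟩
    simp only [Set.Finite.mem_toFinset, SetLike.mem_coe]
    exact mul_mem hb (inv_mem hh)
  · intro a _
    rw [mul_smul]

theorem smul_av (D : Subgroup H) {h : H} (hh : h ∈ D) (v : V) : h • av D v = av D v := by
  unfold av
  rw [Finset.smul_sum]
  refine Finset.sum_bij (fun g _ => h * g) ?_ ?_ ?_ ?_
  · intro g hg
    simp only [Set.Finite.mem_toFinset, SetLike.mem_coe] at hg ⊢
    exact mul_mem hh hg
  · intro a _ b _ hab
    exact mul_left_cancel hab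
  · intro b hb
    simp only [Set.Finite.mem_toFinset, SetLike.mem_coe] at hb
    refine ⟨h⁻¹ * b, ?_, by group⟩
    simp only [Set.Finite.mem_toFinset, SetLike.mem_coe]
    exact mul_mem (inv_mem hh) hb
  · intro a _
    rw [mul_smul]

theorem av_fix (D : Subgroup H) {v : V} (hv : ∀ h ∈ D, h • v = v) :
    av D v = Nat.card D • v := by
  unfold av
  rw [Finset.sum_congr rfl (g := fun _ => v) (fun g hg => by
    simp only [Set.Finite.mem_toFinset, SetLike.mem_coe] at hg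
    exact hv g hg)]
  rw [Finset.sum_const, ← Set.ncard_eq_toFinset_card]
  rfl

theorem av_conj (D : Subgroup H) {r : H} (hr : ∀ g ∈ D, r⁻¹ * g * r = g⁻¹) (v : V) :
    av D (r • v) = r • av D v := by
  unfold av
  rw [Finset.smul_sum]
  refine Finset.sum_bij (fun g _ => g⁻¹) ?_ ?_ ?_ ?_
  · intro g hg
    simp only [Set.Finite.mem_toFinset, SetLike.mem_coe] at hg ⊢
    exact inv_mem hg
  · intro a _ b _ hab
    exact inv_injective hab
  · intro b hb
    simp only [Set.Finite.mem_toFinset, SetLike.mem_coe] at hb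
    refine ⟨b⁻¹, ?_, by group⟩
    simp only [Set.Finite.mem_toFinset, SetLike.mem_coe]
    exact inv_mem hb
  · intro a ha
    simp only [Set.Finite.mem_toFinset, SetLike.mem_coe] at ha
    rw [← hr a ha, ← mul_smul, ← mul_smul]
    congr 1; group

end

section

variable [FaithfulSMul H V] {p : ℕ} [Fact p.Prime] [Finite V] [Finite H]

theorem Fx_ne_of_nc (hb : Bin H V) {r s : H} (hr : IsRf V r) (hs : IsRf V s)
    (hnc : r * s ≠ s * r) : Fx V r ≠ Fx V s := fun h => hnc (comm_of_Fx hb hr hs h)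

theorem exists_mem_notMem (hb : Bin H V) {r s : H} (hr : IsRf V r) (hs : IsRf V s)
    (hnc : r * s ≠ s * r) : ∃ z, z ∈ Fx V s ∧ z ∉ Fx V r := by
  by_contra hcon
  push Not at hcon
  exact Fx_ne_of_nc hb hr hs hnc (hs.2 r hr.1 hcon)

theorem fx_mul (hb : Bin H V) {r s : H} (hr : IsRf V r) (hs : IsRf V s)
    (hnc : r * s ≠ s * r) {v : V} (hv : (r * s) • v = v) : v ∈ Fx V r ∧ v ∈ Fx V s := by
  obtain ⟨z, hz1, hz2⟩ := exists_mem_notMem hb hr hs hnc
  have := star2 hb hr hz2 (mem_Fx.1 hz1) hv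
  exact ⟨this.1, mem_Fx.2 this.2⟩

theorem dec_disj (hb : Bin H V) (hp : ∀ v : V, p • v = 0) {r s : H} (hr : IsRf V r)
    (hs : IsRf V s) (hnc : r * s ≠ s * r) :
    (Wx V r ⊔ Wx V s) ⊓ (Fx V r ⊓ Fx V s) = ⊥ := by
  rw [disj_iff]
  intro x hx1 hx2
  set Z := Subgroup.zpowers (r * s) with hZ
  have hav : ∀ v : V, av Z v ∈ Fx V r ∧ av Z v ∈ Fx V s := fun v =>
    fx_mul hb hr hs hnc (smul_av Z (Subgroup.mem_zpowers _) v)
  have hrc : ∀ g ∈ Z, r⁻¹ * g * r = g⁻¹ := by
    intro g hg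
    obtain ⟨i, rfl⟩ := Subgroup.mem_zpowers_iff.1 hg
    have e : r⁻¹ * (r * s) * r = (r * s)⁻¹ := by
      rw [mul_inv_rev, hs.inv hb, hr.inv hb, ← mul_assoc, hr.sq hb, one_mul]
    have e2 : r⁻¹ * (r * s) ^ i * r = (r⁻¹ * (r * s) * r) ^ i := by
      have := conj_zpow (a := r⁻¹) (b := r * s) (i := i)
      rw [inv_inv] at this
      exact this.symm
    rw [e2, e, inv_zpow]
  have hsc : ∀ g ∈ Z, s⁻¹ * g * s = g⁻¹ := by
    intro g hg
    obtain ⟨i, rfl⟩ := Subgroup.mem_zpowers_iff.1 hg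
    have e : s⁻¹ * (r * s) * s = (r * s)⁻¹ := by
      rw [mul_inv_rev, hs.inv hb, hr.inv hb, mul_assoc, mul_assoc, hs.sq hb, mul_one]
    have e2 : s⁻¹ * (r * s) ^ i * s = (s⁻¹ * (r * s) * s) ^ i := by
      have := conj_zpow (a := s⁻¹) (b := r * s) (i := i)
      rw [inv_inv] at this
      exact this.symm
    rw [e2, e, inv_zpow]
  obtain ⟨a, ha, b, hb', rfl⟩ := AddSubgroup.mem_sup.1 hx1
  have hza : av Z a = 0 := by
    obtain ⟨y, rfl⟩ := mem_Wx.1 ha
    rw [av_sub, av_conj Z hrc, mem_Fx.1 (hav y).1, sub_self]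
  have hzb : av Z b = 0 := by
    obtain ⟨y, rfl⟩ := mem_Wx.1 hb'
    rw [av_sub, av_conj Z hsc, mem_Fx.1 (hav y).2, sub_self]
  have h1 : av Z (a + b) = 0 := by rw [av_add, hza, hzb, add_zero]
  have h2 : (r * s) • (a + b) = a + b := by
    rw [mul_smul, mem_Fx.1 hx2.2, mem_Fx.1 hx2.1]
  rw [av_fix Z (fun h hh => by
    have hle : Z ≤ MulAction.stabilizer H (a + b) := by
      rw [hZ, Subgroup.zpowers_le]
      exact h2
    exact hle hh), hZ, Nat.card_zpowers] at h1
  exact tors hp (not_dvd hb hp hr hs hnc) h1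

theorem nc_disj' (hb : Bin H V) {r s : H} (hs : IsRf V s)
    (hnc : r * s ≠ s * r) : Wx V s ⊓ Fx V r = ⊥ :=
  disj_iff.2 (fun _ h1 h2 => nc_disj hb hs hnc h1 (mem_Fx.1 h2))

theorem card_pos' (M : AddSubgroup V) : 0 < Nat.card M := Nat.card_pos

theorem card_mul_le {M N : AddSubgroup V} (h : M ⊓ N = ⊥) :
    Nat.card M * Nat.card N ≤ Nat.card V := by
  rw [← card_sup_of_disj h]
  exact Finite.card_subtype_le _

theorem card_Wx_le (hb : Bin H V) {r s : H} (hs : IsRf V s)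
    (hnc : r * s ≠ s * r) : Nat.card (Wx V s) ≤ Nat.card (Wx V r) := by
  have h1 := card_mul_le (nc_disj' hb hs hnc)
  rw [← card_Fx_Wx (V := V) r, mul_comm] at h1
  exact Nat.le_of_mul_le_mul_left h1 (card_pos' _)

theorem card_Wx_eq (hb : Bin H V) {r s : H} (hr : IsRf V r) (hs : IsRf V s)
    (hnc : r * s ≠ s * r) : Nat.card (Wx V s) = Nat.card (Wx V r) :=
  le_antisymm (card_Wx_le hb hs hnc) (card_Wx_le hb hr (fun h => hnc h.symm))

theorem two_le_card_Wx {r : H} (hr : r ≠ 1) : 2 ≤ Nat.card (Wx V r) := by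
  have h1 : 0 < Nat.card (Wx V r) := card_pos' _
  rcases Nat.lt_or_ge (Nat.card (Wx V r)) 2 with h | h
  · exfalso
    have h2 : Nat.card (Wx V r) = 1 := by omega
    exact Wx_ne_bot (V := V) hr ((AddSubgroup.card_eq_one).1 h2)
  · exact h

theorem Wx_inf (hb : Bin H V) {r s : H} (hr : IsRf V r) (hs : IsRf V s) (hne : r ≠ s) :
    Wx V r ⊓ Wx V s = ⊥ := by
  rw [disj_iff]
  intro v h1 h2
  by_contra h0
  exact hne (lemW hb hr hs h0 h1 h2)

theorem card_A (hb : Bin H V) (hp : ∀ v : V, p • v = 0) {r s : H} (hr : IsRf V r)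
    (hs : IsRf V s) (hnc : r * s ≠ s * r) :
    Nat.card ↥(Fx V r ⊓ Fx V s) * Nat.card (Wx V r) ^ 2 = Nat.card V := by
  have hne : r ≠ s := by rintro rfl; exact hnc rfl
  have h1 := card_Fx_Wx (V := V) r
  have h2 := card_Fx_Wx (V := V) s
  have h3 := card_Wx_eq hb hr hs hnc
  rw [h3] at h2
  have h4 := card_sup_of_disj (Wx_inf hb hr hs hne)
  rw [h3] at h4
  have h5 := card_mul_le (dec_disj hb hp hr hs hnc)
  rw [h4] at h5
  have h6 := card_sup_inf (Fx V r) (Fx V s)
  have h7 : Nat.card ↥(Fx V r ⊔ Fx V s) ≤ Nat.card V := Finite.card_subtype_le _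
  apply le_antisymm
  · nlinarith
  · have hq : 0 < Nat.card (Wx V r) := card_pos' _
    have hf : 0 < Nat.card (Fx V r) := card_pos' _
    have h8 : Nat.card (Fx V r) = Nat.card (Fx V s) := by
      apply Nat.eq_of_mul_eq_mul_right hq
      rw [h1, h2]
    rw [← h8] at h6
    -- F * F ≤ V * A, V = F * q
    have h9 : Nat.card (Fx V r) * Nat.card (Fx V r) ≤
        Nat.card (Fx V r) * (Nat.card (Wx V r) * Nat.card ↥(Fx V r ⊓ Fx V s)) := by
      rw [← h6, ← mul_assoc, h1]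
      exact Nat.mul_le_mul_right _ h7
    have h10 := Nat.le_of_mul_le_mul_left h9 hf
    calc Nat.card V = Nat.card (Fx V r) * Nat.card (Wx V r) := h1.symm
      _ ≤ (Nat.card (Wx V r) * Nat.card ↥(Fx V r ⊓ Fx V s)) * Nat.card (Wx V r) :=
        Nat.mul_le_mul_right _ h10
      _ = _ := by ring

theorem card_Fx_A (hb : Bin H V) (hp : ∀ v : V, p • v = 0) {r s : H} (hr : IsRf V r)
    (hs : IsRf V s) (hnc : r * s ≠ s * r) :
    Nat.card ↥(Fx V r ⊓ Fx V s) * Nat.card (Wx V r) = Nat.card (Fx V r) := by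
  have h1 := card_A hb hp hr hs hnc
  have h2 := card_Fx_Wx (V := V) r
  have hq : 0 < Nat.card (Wx V r) := card_pos' _
  apply Nat.eq_of_mul_eq_mul_right hq
  rw [h2, ← h1]; ring

theorem sup_top (hb : Bin H V) (hp : ∀ v : V, p • v = 0) {r s : H} (hr : IsRf V r)
    (hs : IsRf V s) (hnc : r * s ≠ s * r) :
    (Wx V r ⊔ Wx V s) ⊔ (Fx V r ⊓ Fx V s) = ⊤ := by
  have hne : r ≠ s := by rintro rfl; exact hnc rfl
  apply AddSubgroup.eq_top_of_card_eq
  rw [card_sup_of_disj (dec_disj hb hp hr hs hnc), card_sup_of_disj (Wx_inf hb hr hs hne),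
    card_Wx_eq hb hr hs hnc, ← card_A hb hp hr hs hnc]
  ring

end

end Cfsg.Agent.H27.BPA
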