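import Cfsg.Agent.H27.BPA3

set_option autoImplicit false
set_option linter.unusedSectionVars false
set_option linter.deprecated false

/-!
S5753: the fixer of the common fixed space of two non-commuting reflections.
-/

namespace Cfsg.Agent.H27.BPA

variable {H V : Type*} [Group H] [AddCommGroup V] [DistribMulAction H V]

/-- non-commuting pair of reflections -/
structure NC (V : Type*) [AddCommGroup V] [DistribMulAction H V] (r s : H) : Prop where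
  hr : IsRf V r
  hs : IsRf V s
  nc : r * s ≠ s * r

theorem NC.symm {r s : H} (h : NC V r s) : NC V s r := ⟨h.hs, h.hr, fun e => h.nc e.symm⟩

theorem NC.ne {r s : H} (h : NC V r s) : r ≠ s := by
  rintro rfl; exact h.nc rfl

/-- reflections fixing `A` -/
def RR (A : AddSubgroup V) : Set H := {t | IsRf V t ∧ A ≤ Fx V t}

section

variable [FaithfulSMul H V] {p : ℕ} [Fact p.Prime] [Finite V] [Finite H]

theorem parity (hp : ∀ v : V, p • v = 0) :
    (∀ v : V, v + v = 0) ∨ (∀ v : V, v + v = 0 → v = 0) := by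
  by_cases h : p = 2
  · subst h
    left
    intro v
    rw [← two_nsmul]; exact hp v
  · right
    intro v hv
    refine tors hp (n := 2) ?_ (by rw [two_nsmul]; exact hv)
    intro h2
    exact h ((Nat.prime_dvd_prime_iff_eq (Fact.out (p := p.Prime)) Nat.prime_two).1 h2)

theorem mem_RR_r (r s : H) (hr : IsRf V r) : r ∈ RR (H := H) (Fx V r ⊓ Fx V s) := ⟨hr, inf_le_left⟩
theorem mem_RR_s (r s : H) (hs : IsRf V s) : s ∈ RR (H := H) (Fx V r ⊓ Fx V s) := ⟨hs, inf_le_right⟩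

theorem nc_one (hb : Bin H V) (hp : ∀ v : V, p • v = 0) {r s t : H} (h : NC V r s)
    (ht : t ∈ RR (H := H) (Fx V r ⊓ Fx V s)) : NC V t r ∨ NC V t s := by
  by_contra hcon
  push Not at hcon
  obtain ⟨h1, h2⟩ := hcon
  have c1 : t * r = r * t := by
    by_contra hc; exact h1 ⟨ht.1, h.hr, hc⟩
  have c2 : t * s = s * t := by
    by_contra hc; exact h2 ⟨ht.1, h.hs, hc⟩
  have n1 : t ≠ r := by rintro rfl; exact h.nc c2
  have n2 : t ≠ s := by rintro rfl; exact h.nc c1.symm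
  have w1 : Wx V r ≤ Fx V t := fun w hw => mem_Fx.2 (comm_fix hb ht.1 h.hr n1 c1 hw)
  have w2 : Wx V s ≤ Fx V t := fun w hw => mem_Fx.2 (comm_fix hb ht.1 h.hs n2 c2 hw)
  obtain ⟨x, hx⟩ := ht.1.exists_notMem
  apply hx
  have := sup_top hb hp h.hr h.hs h.nc
  have hle : (Wx V r ⊔ Wx V s) ⊔ (Fx V r ⊓ Fx V s) ≤ Fx V t := sup_le (sup_le w1 w2) ht.2
  rw [this] at hle
  exact hle (AddSubgroup.mem_top x)

theorem card_Wx_RR (hb : Bin H V) (hp : ∀ v : V, p • v = 0) {r s t : H} (h : NC V r s)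
    (ht : t ∈ RR (H := H) (Fx V r ⊓ Fx V s)) : Nat.card (Wx V t) = Nat.card (Wx V r) := by
  rcases nc_one hb hp h ht with h1 | h1
  · exact (card_Wx_eq hb h1.hr h1.hs h1.nc).symm
  · rw [← card_Wx_eq hb h1.hr h1.hs h1.nc]
    exact card_Wx_eq hb h.hr h.hs h.nc

theorem card_Fx_RR (hb : Bin H V) (hp : ∀ v : V, p • v = 0) {r s t : H} (h : NC V r s)
    (ht : t ∈ RR (H := H) (Fx V r ⊓ Fx V s)) :
    Nat.card ↥(Fx V r ⊓ Fx V s) * Nat.card (Wx V r) = Nat.card (Fx V t) := by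
  have h1 := card_Fx_Wx (V := V) t
  have h2 := card_A hb hp h.hr h.hs h.nc
  rw [card_Wx_RR hb hp h ht] at h1
  apply Nat.eq_of_mul_eq_mul_right (card_pos' (Wx V r))
  rw [h1, ← h2]; ring

theorem A_inf_Wx (hb : Bin H V) (hp : ∀ v : V, p • v = 0) {r s t : H} (h : NC V r s)
    (ht : t ∈ RR (H := H) (Fx V r ⊓ Fx V s)) : (Fx V r ⊓ Fx V s) ⊓ Wx V t = ⊥ := by
  rw [disj_iff]
  intro v hv hw
  rcases nc_one hb hp h ht with h1 | h1
  · exact nc_disj hb h1.hr h1.symm.nc hw (mem_Fx.1 hv.1)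
  · exact nc_disj hb h1.hr h1.symm.nc hw (mem_Fx.1 hv.2)

theorem Fx_eq_sup_even (hb : Bin H V) (hp : ∀ v : V, p • v = 0) (h2 : ∀ v : V, v + v = 0)
    {r s t : H} (h : NC V r s)
    (ht : t ∈ RR (H := H) (Fx V r ⊓ Fx V s)) : (Fx V r ⊓ Fx V s) ⊔ Wx V t = Fx V t := by
  apply eq_of_card
  · refine sup_le ht.2 (fun w hw => ?_)
    rw [mem_Fx, ht.1.neg hb hw]
    exact neg_eq_of_add_eq_zero_left (h2 w)
  · rw [card_sup_of_disj (A_inf_Wx hb hp h ht), card_Wx_RR hb hp h ht, card_Fx_RR hb hp h ht]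

theorem Fx_eq_even (hb : Bin H V) (hp : ∀ v : V, p • v = 0) (h2 : ∀ v : V, v + v = 0)
    {r s t t' : H} (h : NC V r s) (ht : t ∈ RR (H := H) (Fx V r ⊓ Fx V s))
    (ht' : t' ∈ RR (H := H) (Fx V r ⊓ Fx V s)) (hc : t * t' = t' * t) : Fx V t = Fx V t' := by
  by_cases hne : t = t'
  · rw [hne]
  have w1 : Wx V t' ≤ Fx V t := fun w hw => mem_Fx.2 (comm_fix hb ht.1 ht'.1 hne hc hw)
  apply ht'.1.2 t ht.1.1
  rw [← Fx_eq_sup_even hb hp h2 h ht']
  exact sup_le ht.2 w1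

theorem Fx_inf_Wx_odd (hb : Bin H V) (h2 : ∀ v : V, v + v = 0 → v = 0) {t : H} (ht : IsRf V t) :
    Fx V t ⊓ Wx V t = ⊥ := by
  rw [disj_iff]
  intro v hv hw
  apply h2
  have := ht.neg hb hw
  rw [mem_Fx.1 hv] at this
  nth_rw 1 [this]
  rw [neg_add_cancel]

theorem Fx_sup_odd (hb : Bin H V) (h2 : ∀ v : V, v + v = 0 → v = 0) {t t' : H} (ht : IsRf V t)
    (ht' : IsRf V t') (hne : t ≠ t') (hc : t * t' = t' * t) : Fx V t ⊔ Fx V t' = ⊤ := by
  have w1 : Wx V t ≤ Fx V t' := fun w hw => mem_Fx.2 (comm_fix hb ht' ht hne.symm hc.symm hw)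
  rw [eq_top_iff]
  have : Fx V t ⊔ Wx V t = ⊤ := by
    apply AddSubgroup.eq_top_of_card_eq
    rw [card_sup_of_disj (Fx_inf_Wx_odd hb h2 ht), card_Fx_Wx]
  rw [← this]
  exact sup_le_sup le_rfl w1

/-- distinct fixed spaces of elements of `RR A` intersect in `A`. -/
theorem inf_eq (hb : Bin H V) (hp : ∀ v : V, p • v = 0)
    {r s t t' : H} (h : NC V r s) (ht : t ∈ RR (H := H) (Fx V r ⊓ Fx V s))
    (ht' : t' ∈ RR (H := H) (Fx V r ⊓ Fx V s)) (hne : Fx V t ≠ Fx V t') :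
    Fx V t ⊓ Fx V t' = Fx V r ⊓ Fx V s := by
  symm
  apply eq_of_card (le_inf ht.2 ht'.2)
  have hA := card_A hb hp h.hr h.hs h.nc
  have hq := card_pos' (Wx V r)
  by_cases hc : t * t' = t' * t
  · rcases parity hp with h2 | h2
    · exact absurd (Fx_eq_even hb hp h2 h ht ht' hc) hne
    · have h1 := Fx_sup_odd hb h2 ht.1 ht'.1 (fun e => hne (by rw [e])) hc
      have h3 := card_sup_inf (Fx V t) (Fx V t')
      rw [h1, AddSubgroup.card_top, ← card_Fx_RR hb hp h ht, ← card_Fx_RR hb hp h ht', ← hA] at h3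
      have h4 : 0 < Nat.card ↥(Fx V r ⊓ Fx V s) * Nat.card (Wx V r) ^ 2 :=
        Nat.mul_pos (card_pos' _) (pow_pos hq 2)
      have h5 : (Nat.card ↥(Fx V r ⊓ Fx V s) * Nat.card (Wx V r) ^ 2) *
          Nat.card ↥(Fx V t ⊓ Fx V t') = (Nat.card ↥(Fx V r ⊓ Fx V s) * Nat.card (Wx V r) ^ 2) *
          Nat.card ↥(Fx V r ⊓ Fx V s) := by rw [h3]; ring
      exact (Nat.eq_of_mul_eq_mul_left h4 h5).le
  · have h1 := card_A hb hp ht.1 ht'.1 hc
    rw [card_Wx_RR hb hp h ht, ← hA] at h1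
    exact (Nat.eq_of_mul_eq_mul_right (pow_pos hq 2) h1).le

theorem nc_mul_ne (hb : Bin H V) {r s : H} (h : NC V r s) : (r * s) * (r * s) ≠ 1 := by
  intro h1
  have h2 : (r * s)⁻¹ = r * s := inv_eq_of_mul_eq_one_right h1
  rw [mul_inv_rev, h.hr.inv hb, h.hs.inv hb] at h2
  exact h.nc h2.symm

theorem cover (hb : Bin H V) {r s : H} (h : NC V r s) (v : V) :
    ∃ t ∈ RR (H := H) (Fx V r ⊓ Fx V s), v ∈ Fx V t := by
  by_contra hcon
  push Not at hcon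
  apply nc_mul_ne hb h
  refine exp_two hb (Fx V r ⊓ Fx V s : AddSubgroup V) v ?_ (r * s) (fun a ha => ?_)
  · intro g hg1 hg2
    by_contra hg
    obtain ⟨ρ, hρ1, hρ2⟩ := exists_rf (V := V) hg
    exact hcon ρ ⟨hρ1, fun a ha => hρ2 (mem_Fx.2 (hg1 a ha))⟩ (hρ2 (mem_Fx.2 hg2))
  · exact mem_Fx.1 (mem_mul ha.1 ha.2)

theorem fixer_le (hb : Bin H V) (hp : ∀ v : V, p • v = 0)
    {r s t : H} (h : NC V r s) (ht : t ∈ RR (H := H) (Fx V r ⊓ Fx V s)) {x : V}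
    (hx : x ∈ Fx V t) (hxA : x ∉ Fx V r ⊓ Fx V s) {g : H} (hgA : Fx V r ⊓ Fx V s ≤ Fx V g)
    (hgx : g • x = x) (hg : g ≠ 1) : Fx V g ≤ Fx V t := by
  obtain ⟨ρ, hρ1, hρ2⟩ := exists_rf (V := V) hg
  have hρ : ρ ∈ RR (H := H) (Fx V r ⊓ Fx V s) := ⟨hρ1, hgA.trans hρ2⟩
  by_cases he : Fx V ρ = Fx V t
  · rw [← he]; exact hρ2
  · exfalso
    apply hxA
    rw [← inf_eq hb hp h hρ ht he]
    exact ⟨hρ2 (mem_Fx.2 hgx), hx⟩

theorem fixer_sq (hb : Bin H V) (hp : ∀ v : V, p • v = 0)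
    {r s t : H} (h : NC V r s) (ht : t ∈ RR (H := H) (Fx V r ⊓ Fx V s)) {x : V}
    (hx : x ∈ Fx V t) (hxA : x ∉ Fx V r ⊓ Fx V s) {g : H} (hgA : Fx V r ⊓ Fx V s ≤ Fx V g)
    (hgx : g • x = x) : g * g = 1 := by
  obtain ⟨y, hy⟩ := ht.1.exists_notMem
  refine exp_two hb (insert x (Fx V r ⊓ Fx V s : AddSubgroup V)) y ?_ g ?_
  · intro k hk1 hk2
    by_contra hk
    exact hy (fixer_le hb hp h ht hx hxA (fun a ha => mem_Fx.2 (hk1 a (Set.mem_insert_of_mem _ ha)))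
      (hk1 x (Set.mem_insert _ _)) hk (mem_Fx.2 hk2))
  · intro a ha
    rcases Set.mem_insert_iff.1 ha with rfl | ha
    · exact hgx
    · exact mem_Fx.1 (hgA ha)

theorem comm_of_sq {g t : H} (h1 : g * g = 1) (h2 : t * t = 1) (h3 : (g * t) * (g * t) = 1) :
    g * t = t * g := by
  have e1 : g⁻¹ = g := inv_eq_of_mul_eq_one_right h1
  have e2 : t⁻¹ = t := inv_eq_of_mul_eq_one_right h2
  have e3 : (g * t)⁻¹ = g * t := inv_eq_of_mul_eq_one_right h3
  rw [mul_inv_rev, e1, e2] at e3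
  exact e3.symm

theorem fixer_comm (hb : Bin H V) (hp : ∀ v : V, p • v = 0)
    {r s t : H} (h : NC V r s) (ht : t ∈ RR (H := H) (Fx V r ⊓ Fx V s)) {x : V}
    (hx : x ∈ Fx V t) (hxA : x ∉ Fx V r ⊓ Fx V s) {g : H} (hgA : Fx V r ⊓ Fx V s ≤ Fx V g)
    (hgx : g • x = x) : g * t = t * g := by
  apply comm_of_sq (fixer_sq hb hp h ht hx hxA hgA hgx) (ht.1.sq hb)
  apply fixer_sq hb hp h ht hx hxA (fun a ha => mem_mul (hgA ha) (ht.2 ha))
  rw [mul_smul, mem_Fx.1 hx, hgx]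

theorem fixer_odd (hb : Bin H V) (hp : ∀ v : V, p • v = 0) (h2 : ∀ v : V, v + v = 0 → v = 0)
    {r s t : H} (h : NC V r s) (ht : t ∈ RR (H := H) (Fx V r ⊓ Fx V s)) {x : V}
    (hx : x ∈ Fx V t) (hxA : x ∉ Fx V r ⊓ Fx V s) {g : H} (hgA : Fx V r ⊓ Fx V s ≤ Fx V g)
    (hgx : g • x = x) (hg : g ≠ 1) : g = t := by
  have hsq := fixer_sq hb hp h ht hx hxA hgA hgx
  have hcm := fixer_comm hb hp h ht hx hxA hgA hgx
  have hle := fixer_le hb hp h ht hx hxA hgA hgx hg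
  by_contra hne
  have h1 : t * g ≠ 1 := by
    intro e
    apply hne
    rw [← ht.1.inv hb]
    exact (inv_eq_of_mul_eq_one_right e).symm
  obtain ⟨w, hw1, hw2⟩ := exists_ne_of (Wx_ne_bot (V := V) ht.1.1)
  have h3 : g • w = -w := by
    have h4 : g • w ∈ Wx V t := smul_mem_Wx hcm hw1
    have h5 : w + g • w ∈ Fx V t := by
      apply hle
      rw [mem_Fx, smul_add, ← mul_smul, hsq, one_smul, add_comm]
    have h6 : w + g • w ∈ Wx V t := add_mem hw1 h4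
    have h7 : w + g • w ∈ Fx V t ⊓ Wx V t := ⟨h5, h6⟩
    rw [Fx_inf_Wx_odd hb h2 ht.1] at h7
    exact (neg_eq_of_add_eq_zero_right h7).symm
  have h8 : (t * g) • w = w := by
    rw [mul_smul, h3, smul_neg, ht.1.neg hb hw1, neg_neg]
  have h9 := fixer_le hb hp h ht hx hxA (g := t * g) (fun a ha => mem_mul (ht.2 ha) (hgA ha))
    (by rw [mul_smul, hgx, mem_Fx.1 hx]) h1
  have h10 : w ∈ Fx V t ⊓ Wx V t := ⟨h9 (mem_Fx.2 h8), hw1⟩
  rw [Fx_inf_Wx_odd hb h2 ht.1] at h10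
  exact hw2 h10

theorem mem_RR_conj {A : AddSubgroup V} {t g : H} (ht : t ∈ RR (H := H) A) (hg : A ≤ Fx V g) :
    g * t * g⁻¹ ∈ RR (H := H) A := by
  refine ⟨ht.1.conj g, fun a ha => ?_⟩
  rw [mem_Fx_conj]
  have h1 : g⁻¹ • a = a := mem_Fx.1 (mem_inv (hg ha))
  rw [h1]
  exact ht.2 ha

theorem card_comap_dl (h : H) (A : AddSubgroup V) :
    Nat.card (A.comap (dl V h)) = Nat.card (Fx V h) * Nat.card ↥(Wx V h ⊓ A) := by
  set f : A.comap (dl V h) →+ V := (dl V h).comp (AddSubgroup.subtype _) with hf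
  have h1 := AddSubgroup.card_mul_index f.ker
  rw [AddSubgroup.index_ker] at h1
  rw [← h1]
  congr 1
  · apply Nat.card_congr
    refine ⟨fun x => ⟨x.1.1, x.2⟩, fun y => ⟨⟨y.1, ?_⟩, y.2⟩, fun x => rfl, fun y => rfl⟩
    have : dl V h y.1 = 0 := y.2
    rw [AddSubgroup.mem_comap, this]
    exact zero_mem _
  · have : f.range = Wx V h ⊓ A := by
      ext v
      constructor
      · rintro ⟨x, rfl⟩
        exact ⟨⟨x.1, rfl⟩, x.2⟩
      · rintro ⟨⟨x, rfl⟩, hv⟩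
        exact ⟨⟨x, hv⟩, rfl⟩
    rw [this]

theorem fixer_even_a (hb : Bin H V) (hp : ∀ v : V, p • v = 0) (h2 : ∀ v : V, v + v = 0)
    {r s t : H} (h : NC V r s) (ht : t ∈ RR (H := H) (Fx V r ⊓ Fx V s)) {x : V}
    (hx : x ∈ Fx V t) (hxA : x ∉ Fx V r ⊓ Fx V s) {g : H} (hgA : Fx V r ⊓ Fx V s ≤ Fx V g)
    (hgx : g • x = x) (hg : g ≠ 1) : Fx V g = Fx V t := by
  have hneg : ∀ v : V, -v = v := fun v => neg_eq_of_add_eq_zero_left (h2 v)
  have hsq := fixer_sq hb hp h ht hx hxA hgA hgx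
  have hle := fixer_le hb hp h ht hx hxA hgA hgx hg
  have hginv : g⁻¹ = g := inv_eq_of_mul_eq_one_right hsq
  -- the elements moved into `A`
  have hD : (Fx V r ⊓ Fx V s).comap (dl V g) ≤ Fx V t := by
    intro y hy
    by_contra hyt
    have hyA : g • y - y ∈ Fx V r ⊓ Fx V s := hy
    obtain ⟨σ, hσ, hyσ⟩ := cover hb h y
    have hσ1 := mem_RR_conj hσ hgA
    have hgy1 : g • y ∈ Fx V (g * σ * g⁻¹) := by
      rw [mem_Fx_conj, inv_smul_smul]; exact hyσ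
    have hgy2 : g • y ∈ Fx V σ := by
      have : g • y = (g • y - y) + y := by abel
      rw [this]
      exact add_mem (hσ.2 hyA) hyσ
    have hgy3 : g • y ∉ Fx V r ⊓ Fx V s := by
      intro h3
      apply hyt
      apply ht.2
      have : y = g • y - (g • y - y) := by abel
      rw [this]
      exact sub_mem h3 hyA
    have he : Fx V (g * σ * g⁻¹) = Fx V σ := by
      by_contra hne
      apply hgy3
      rw [← inf_eq hb hp h hσ1 hσ hne]
      exact ⟨hgy1, hgy2⟩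
    have hcm : (g * σ * g⁻¹) * σ = σ * (g * σ * g⁻¹) := comm_of_Fx hb hσ1.1 hσ.1 he
    -- an element of the fixer of `Fx σ` commuting with `g`
    obtain ⟨σ', hσ'1, hσ'2, hσ'3⟩ : ∃ σ' : H, IsRf V σ' ∧ Fx V σ' = Fx V σ ∧
        g * σ' = σ' * g := by
      by_cases hc : g * σ * g⁻¹ = σ
      · refine ⟨σ, hσ.1, rfl, ?_⟩
        calc g * σ = (g * σ * g⁻¹) * g := by group
          _ = σ * g := by rw [hc]
      · have hne1 : σ * (g * σ * g⁻¹) ≠ 1 := by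
          intro e
          apply hc
          rw [← hσ.1.inv hb]
          nth_rw 1 [hσ.1.inv hb]
          exact (inv_eq_of_mul_eq_one_right e).symm
        have hle2 : Fx V σ ≤ Fx V (σ * (g * σ * g⁻¹)) := fun v hv => mem_mul hv (he ▸ hv)
        refine ⟨_, hσ.1.of_le hne1 hle2, hσ.1.2 _ hne1 hle2, ?_⟩
        rw [hginv] at hcm ⊢
        calc g * (σ * (g * σ * g)) = (g * σ * g * σ) * g := by simp only [mul_assoc]
          _ = (σ * (g * σ * g)) * g := by rw [hcm]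
    obtain ⟨w, hw1, hw2, hw3⟩ := pfix (p := 2) (by intro v; rw [two_nsmul]; exact h2 v)
      (Wx_ne_bot (V := V) hσ'1.1) g (n := 1) (by rw [pow_one, pow_two]; exact hsq)
      (fun v hv => smul_mem_Wx hσ'3 hv)
    have hwt : w ∈ Fx V t := hle (mem_Fx.2 hw3)
    have hnc : t * σ' ≠ σ' * t := by
      intro hc
      apply hyt
      rw [Fx_eq_even hb hp h2 h ht ⟨hσ'1, by rw [hσ'2]; exact hσ.2⟩ hc, hσ'2]
      exact hyσ
    exact hw2 (nc_disj hb hσ'1 hnc hw1 (mem_Fx.1 hwt))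
  -- counting
  have hWF : Wx V g ≤ Fx V g := by
    intro w hw
    obtain ⟨v, rfl⟩ := mem_Wx.1 hw
    rw [mem_Fx, smul_sub, ← mul_smul, hsq, one_smul, ← hneg (g • v - v)]; abel
  have c1 := card_comap_dl g (Fx V r ⊓ Fx V s)
  have c2 := card_le_of hD
  rw [c1] at c2
  have c3 := card_Fx_Wx (V := V) g
  have c4 := card_Fx_Wx (V := V) t
  rw [card_Wx_RR hb hp h ht] at c4
  have c5 := card_sup_inf (Wx V g) (Fx V r ⊓ Fx V s)
  have c6 : Wx V g ⊔ (Fx V r ⊓ Fx V s) ≤ Fx V g := sup_le hWF hgA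
  have c7 := card_le_of c6
  have c8 := card_Fx_RR hb hp h ht
  apply eq_of_card hle
  set q := Nat.card (Wx V r)
  set a := Nat.card ↥(Fx V r ⊓ Fx V s)
  set F := Nat.card (Fx V g)
  set W := Nat.card (Wx V g)
  set T := Nat.card (Fx V t)
  set i := Nat.card ↥(Wx V g ⊓ (Fx V r ⊓ Fx V s))
  have hF : 0 < F := card_pos' _
  have hi : 0 < i := card_pos' _
  -- F i ≤ T, F W = T q, (sup) i = W a, sup ≤ F, a q = T
  have c9 : i * q ≤ W := by
    have : F * (i * q) ≤ F * W := by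
      calc F * (i * q) = F * i * q := by ring
        _ ≤ T * q := Nat.mul_le_mul_right _ c2
        _ = F * W := by rw [c4, c3]
    exact Nat.le_of_mul_le_mul_left this hF
  have c10 : T * i ≤ F * i := by
    calc T * i = i * q * a := by rw [← c8]; ring
      _ ≤ W * a := Nat.mul_le_mul_right _ c9
      _ = _ := c5.symm
      _ ≤ F * i := Nat.mul_le_mul_right _ c7
  exact Nat.le_of_mul_le_mul_right c10 hi

end

end Cfsg.Agent.H27.BPA
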