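import Cfsg.Agent.H27.BPASpec

set_option autoImplicit false
set_option linter.unusedSectionVars false
set_option linter.deprecated false

/-!
S5753: proof of the structure theorem `ds`.
-/

namespace Cfsg.Agent.H27.BPA

variable {H V : Type*} [Group H] [AddCommGroup V] [DistribMulAction H V]

section

variable [FaithfulSMul H V] {p : ℕ} [Fact p.Prime] [Finite V] [Finite H]

theorem stab_sq (hb : Bin H V) (hp : ∀ v : V, p • v = 0) (h2 : ∀ v : V, v + v = 0)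
    {r s t : H} (h : NC V r s) (ht : t ∈ RR (H := H) (Fx V r ⊓ Fx V s)) {k : H}
    (hkA : Fx V r ⊓ Fx V s ≤ Fx V k) (hk : ∀ x ∈ Fx V t, k • x ∈ Fx V t) :
    Fx V t ≤ Fx V (k * k) := by
  intro x hx
  have hneg : ∀ v : V, -v = v := fun v => neg_eq_of_add_eq_zero_left (h2 v)
  have key : k • x - x ∈ Fx V r ⊓ Fx V s := by
    by_cases hxA : x ∈ Fx V r ⊓ Fx V s
    · rw [mem_Fx.1 (hkA hxA), sub_self]; exact zero_mem _
    · obtain ⟨g, hg1, hg2, hg3, hg4⟩ := swap hb ((Fx V r ⊓ Fx V s : AddSubgroup V) : Set V) k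
        (fun a ha => mem_Fx.1 (hkA ha)) x
      by_contra hcon
      have hsum : x + k • x = k • x - x := by
        rw [sub_eq_add_neg, hneg, add_comm]
      have hA : x + k • x ∉ Fx V r ⊓ Fx V s := by rw [hsum]; exact hcon
      have hF : x + k • x ∈ Fx V t := add_mem hx (hk x hx)
      by_cases hg : g = 1
      · apply hcon
        rw [← hg2, hg, one_smul, sub_self]; exact zero_mem _
      · have := fixer_even_a hb hp h2 h ht hF hA (fun a ha => mem_Fx.2 (hg1 a ha)) hg4 hg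
        rw [← this, mem_Fx, hg2] at hx
        apply hcon
        rw [hx, sub_self]; exact zero_mem _
  rw [mem_Fx, mul_smul]
  have e1 : k • x = x + (k • x - x) := by abel
  have e2 : k • (k • x - x) = k • x - x := mem_Fx.1 (hkA key)
  have e3 : k • k • x = k • x + k • (k • x - x) := by
    rw [← smul_add]; congr 1
  rw [e3, e2]
  have : k • x + (k • x - x) = (k • x + k • x) - x := by abel
  rw [this, h2, zero_sub, hneg]

theorem conj_of_nc (hb : Bin H V) (h2 : ∀ v : V, v + v = 0) {A : AddSubgroup V}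
    {t s' : H} (h : NC V t s') (ht : A ≤ Fx V t) (hs : A ≤ Fx V s') :
    ∃ k : H, A ≤ Fx V k ∧ k * t * k⁻¹ = s' := by
  have hodd := not_dvd (p := 2) hb (by intro v; rw [two_nsmul]; exact h2 v) h.hs h.hr h.symm.nc
  obtain ⟨j, hj⟩ : ∃ j, orderOf (s' * t) + 1 = j + j := by
    have : ¬ Even (orderOf (s' * t)) := fun h => hodd h.two_dvd
    rw [Nat.not_even_iff_odd] at this
    obtain ⟨i, hi⟩ := this
    exact ⟨i + 1, by omega⟩
  have hle : A ≤ Fx V (s' * t) := fun a ha => mem_mul (hs ha) (ht ha)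
  have hlej : ∀ i : ℕ, A ≤ Fx V ((s' * t) ^ i) := by
    intro i
    induction i with
    | zero => intro a _; rw [pow_zero, mem_Fx, one_smul]
    | succ i ih => intro a ha; rw [pow_succ]; exact mem_mul (ih ha) (hle ha)
  refine ⟨(s' * t) ^ j, hlej j, ?_⟩
  have e1 : t * ((s' * t) ^ j)⁻¹ * t⁻¹ = (s' * t) ^ j := by
    rw [← inv_pow, ← conj_pow, mul_inv_rev, h.hr.inv hb, h.hs.inv hb]
    congr 1
    rw [← mul_assoc, h.hr.sq hb, one_mul]
  have e2 : t * ((s' * t) ^ j)⁻¹ = (s' * t) ^ j * t := by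
    calc t * ((s' * t) ^ j)⁻¹ = (t * ((s' * t) ^ j)⁻¹ * t⁻¹) * t := by group
      _ = _ := by rw [e1]
  rw [mul_assoc, e2, ← mul_assoc, ← pow_add, ← hj, pow_succ, pow_orderOf_eq_one, one_mul, mul_assoc,
    h.hr.sq hb, mul_one]

theorem L2 (hb : Bin H V) (hp : ∀ v : V, p • v = 0) (h2 : ∀ v : V, v + v = 0)
    {r s t t' : H} (h : NC V r s) (ht : t ∈ RR (H := H) (Fx V r ⊓ Fx V s))
    (ht' : t' ∈ RR (H := H) (Fx V r ⊓ Fx V s)) (he : Fx V t = Fx V t') : t = t' := by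
  by_contra hne
  obtain ⟨s', hs', hs't⟩ : ∃ s' ∈ RR (H := H) (Fx V r ⊓ Fx V s), Fx V s' ≠ Fx V t := by
    by_cases h1 : Fx V r = Fx V t
    · refine ⟨s, mem_RR_s r s h.hs, fun h2 => ?_⟩
      exact Fx_ne_of_nc hb h.hr h.hs h.nc (h1.trans h2.symm)
    · exact ⟨r, mem_RR_r r s h.hr, h1⟩
  have hnc : ∀ l ∈ RR (H := H) (Fx V r ⊓ Fx V s), Fx V l = Fx V t → NC V l s' := by
    intro l hl hlt
    refine ⟨hl.1, hs'.1, fun hc => ?_⟩
    exact hs't (by rw [← hlt]; exact (Fx_eq_even hb hp h2 h hl hs' hc).symm)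
  have hcm := comm_of_Fx hb ht.1 ht'.1 he
  have hl1 : t * t' ≠ 1 := by
    intro e
    apply hne
    rw [← ht'.1.inv hb]
    exact eq_inv_of_mul_eq_one_left e
  have hle : Fx V t ≤ Fx V (t * t') := fun v hv => mem_mul hv (he ▸ hv)
  have hlR : IsRf V (t * t') := ht.1.of_le hl1 hle
  have hlF : Fx V (t * t') = Fx V t := ht.1.2 _ hl1 hle
  have hl : t * t' ∈ RR (H := H) (Fx V r ⊓ Fx V s) := ⟨hlR, by rw [hlF]; exact ht.2⟩
  obtain ⟨k1, hk1, e1⟩ := conj_of_nc hb h2 (hnc t ht rfl) ht.2 hs'.2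
  obtain ⟨k2, hk2, e2⟩ := conj_of_nc hb h2 (hnc t' ht' he.symm) ht'.2 hs'.2
  obtain ⟨k3, hk3, e3⟩ := conj_of_nc hb h2 (hnc _ hl hlF) hl.2 hs'.2
  obtain ⟨k, hkA, hkt⟩ : ∃ k : H, Fx V r ⊓ Fx V s ≤ Fx V k ∧ k * t * k⁻¹ = t' := by
    refine ⟨k2⁻¹ * k1, fun a ha => mem_mul (mem_inv (hk2 ha)) (hk1 ha), ?_⟩
    calc k2⁻¹ * k1 * t * (k2⁻¹ * k1)⁻¹ = k2⁻¹ * (k1 * t * k1⁻¹) * k2 := by group
      _ = k2⁻¹ * (k2 * t' * k2⁻¹) * k2 := by rw [e1, e2]
      _ = t' := by group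
  obtain ⟨m, hmA, hmt⟩ : ∃ m : H, Fx V r ⊓ Fx V s ≤ Fx V m ∧ m * t * m⁻¹ = t * t' := by
    refine ⟨k3⁻¹ * k1, fun a ha => mem_mul (mem_inv (hk3 ha)) (hk1 ha), ?_⟩
    calc k3⁻¹ * k1 * t * (k3⁻¹ * k1)⁻¹ = k3⁻¹ * (k1 * t * k1⁻¹) * k3 := by group
      _ = k3⁻¹ * (k3 * (t * t') * k3⁻¹) * k3 := by rw [e1, e3]
      _ = t * t' := by group
  have hkF : ∀ x ∈ Fx V t, k • x ∈ Fx V t := by
    intro x hx
    rw [he, ← hkt, mem_Fx_conj, inv_smul_smul]; exact hx
  have hmF : ∀ x ∈ Fx V t, m • x ∈ Fx V t := by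
    intro x hx
    rw [← hlF, ← hmt, mem_Fx_conj, inv_smul_smul]; exact hx
  -- squares commute with `t`
  have sqc : ∀ n : H, Fx V r ⊓ Fx V s ≤ Fx V n → (∀ x ∈ Fx V t, n • x ∈ Fx V t) →
      n * n * t = t * (n * n) := by
    intro n hn1 hn2
    by_cases h1 : n * n = 1
    · rw [h1, one_mul, mul_one]
    · have h3 := stab_sq hb hp h2 h ht hn1 hn2
      exact comm_of_Fx hb (ht.1.of_le h1 h3) ht.1 (ht.1.2 _ h1 h3)
  have f1 : k * t' * k⁻¹ = t := by
    rw [← hkt]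
    calc k * (k * t * k⁻¹) * k⁻¹ = (k * k * t) * (k * k)⁻¹ := by group
      _ = t * (k * k) * (k * k)⁻¹ := by rw [sqc k hkA hkF]
      _ = t := by group
  have f2 : m * (t * t') * m⁻¹ = t := by
    rw [← hmt]
    calc m * (m * t * m⁻¹) * m⁻¹ = (m * m * t) * (m * m)⁻¹ := by group
      _ = t * (m * m) * (m * m)⁻¹ := by rw [sqc m hmA hmF]
      _ = t := by group
  have htt := ht.1.sq hb
  have ht't' := ht'.1.sq hb
  -- the action of `n = k m`
  have g1 : (k * m) * t * (k * m)⁻¹ = t * t' := by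
    calc (k * m) * t * (k * m)⁻¹ = k * (m * t * m⁻¹) * k⁻¹ := by group
      _ = k * (t * t') * k⁻¹ := by rw [hmt]
      _ = (k * t * k⁻¹) * (k * t' * k⁻¹) := by group
      _ = t' * t := by rw [hkt, f1]
      _ = t * t' := hcm.symm
  have g2 : (k * m) * (t * t') * (k * m)⁻¹ = t' := by
    calc (k * m) * (t * t') * (k * m)⁻¹ = k * (m * (t * t') * m⁻¹) * k⁻¹ := by group
      _ = t' := by rw [f2, hkt]
  have g3 : (k * m) * t' * (k * m)⁻¹ = t := by
    have e : t' = t * (t * t') := by rw [← mul_assoc, htt, one_mul]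
    calc (k * m) * t' * (k * m)⁻¹ = (k * m) * (t * (t * t')) * (k * m)⁻¹ := by rw [← e]
      _ = ((k * m) * t * (k * m)⁻¹) * ((k * m) * (t * t') * (k * m)⁻¹) := by group
      _ = t * t' * t' := by rw [g1, g2]
      _ = t := by rw [mul_assoc, ht't', mul_one]
  have hnA : Fx V r ⊓ Fx V s ≤ Fx V (k * m) := fun a ha => mem_mul (hkA ha) (hmA ha)
  have hnF : ∀ x ∈ Fx V t, (k * m) • x ∈ Fx V t := by
    intro x hx
    rw [mul_smul]
    exact hkF _ (hmF x hx)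
  have h4 : (k * m) * (k * m) * ((k * m) * (k * m)) = 1 := by
    by_cases h1 : (k * m) * (k * m) = 1
    · rw [h1, one_mul]
    · exact (ht.1.of_le h1 (stab_sq hb hp h2 h ht hnA hnF)).sq hb
  have h5 : t = t * t' := by
    calc t = ((k * m) * (k * m) * ((k * m) * (k * m))) * t *
          ((k * m) * (k * m) * ((k * m) * (k * m)))⁻¹ := by rw [h4]; group
      _ = (k * m) * ((k * m) * ((k * m) * ((k * m) * t * (k * m)⁻¹) * (k * m)⁻¹) * (k * m)⁻¹) *
          (k * m)⁻¹ := by group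
      _ = t * t' := by rw [g1, g2, g3, g1]
  exact ht'.1.1 (mul_eq_left.1 h5.symm)

theorem fixer (hb : Bin H V) (hp : ∀ v : V, p • v = 0)
    {r s t : H} (h : NC V r s) (ht : t ∈ RR (H := H) (Fx V r ⊓ Fx V s)) {x : V}
    (hx : x ∈ Fx V t) (hxA : x ∉ Fx V r ⊓ Fx V s) {g : H} (hgA : Fx V r ⊓ Fx V s ≤ Fx V g)
    (hgx : g • x = x) : g = 1 ∨ g = t := by
  by_cases hg : g = 1
  · exact Or.inl hg
  · right
    rcases parity hp with h2 | h2
    · have h3 := fixer_even_a hb hp h2 h ht hx hxA hgA hgx hg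
      exact L2 hb hp h2 h ⟨ht.1.of_le hg h3.symm.le, by rw [h3]; exact ht.2⟩ ht h3
    · exact fixer_odd hb hp h2 h ht hx hxA hgA hgx hg

theorem uniq_t (hb : Bin H V) (hp : ∀ v : V, p • v = 0)
    {r s t t' : H} (h : NC V r s) (ht : t ∈ RR (H := H) (Fx V r ⊓ Fx V s))
    (ht' : t' ∈ RR (H := H) (Fx V r ⊓ Fx V s)) {x : V}
    (hx : x ∈ Fx V t) (hx' : x ∈ Fx V t') (hxA : x ∉ Fx V r ⊓ Fx V s) : t = t' := by
  rcases fixer hb hp h ht hx hxA ht'.2 (mem_Fx.1 hx') with h1 | h1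
  · exact absurd h1 ht'.1.1
  · exact h1.symm

theorem partner (hb : Bin H V) (hp : ∀ v : V, p • v = 0) (h2 : ∀ v : V, v + v = 0 → v = 0)
    {r s t : H} (h : NC V r s) (ht : t ∈ RR (H := H) (Fx V r ⊓ Fx V s)) :
    ∃ t' ∈ RR (H := H) (Fx V r ⊓ Fx V s), t ≠ t' ∧ t * t' = t' * t ∧
      (Fx V r ⊓ Fx V s) ⊔ Wx V t' = Fx V t ∧ (Fx V r ⊓ Fx V s) ⊔ Wx V t = Fx V t' := by
  obtain ⟨w, hw1, hw2⟩ := exists_ne_of (Wx_ne_bot (V := V) ht.1.1)
  obtain ⟨t', ht', hwt'⟩ := cover hb h w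
  have hc : t' * t = t * t' := comm_of_fix hb ht.1 hw2 hw1 (mem_Fx.1 hwt')
  have hne : t ≠ t' := by
    rintro rfl
    have : w ∈ Fx V t ⊓ Wx V t := ⟨hwt', hw1⟩
    rw [Fx_inf_Wx_odd hb h2 ht.1] at this
    exact hw2 this
  refine ⟨t', ht', hne, hc.symm, ?_, ?_⟩
  · apply eq_of_card
    · exact sup_le ht.2 (fun w hw => mem_Fx.2 (comm_fix hb ht.1 ht'.1 hne hc.symm hw))
    · rw [card_sup_of_disj (A_inf_Wx hb hp h ht'), card_Wx_RR hb hp h ht', card_Fx_RR hb hp h ht]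
  · apply eq_of_card
    · exact sup_le ht'.2 (fun w hw => mem_Fx.2 (comm_fix hb ht'.1 ht.1 hne.symm hc hw))
    · rw [card_sup_of_disj (A_inf_Wx hb hp h ht), card_Wx_RR hb hp h ht, card_Fx_RR hb hp h ht']

theorem orb (hb : Bin H V) (hp : ∀ v : V, p • v = 0)
    {r s : H} (h : NC V r s) {k : H} (hkA : Fx V r ⊓ Fx V s ≤ Fx V k) (v : V) :
    ∃ t ∈ RR (H := H) (Fx V r ⊓ Fx V s), t • v = k • v := by
  obtain ⟨t, ht, hvt⟩ := cover hb h v
  by_cases hkv : k • v = v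
  · exact ⟨t, ht, by rw [hkv]; exact mem_Fx.1 hvt⟩
  have hvA : v ∉ Fx V r ⊓ Fx V s := fun hv => hkv (mem_Fx.1 (hkA hv))
  obtain ⟨g, hg1, hg2, hg3, hg4⟩ := swap hb ((Fx V r ⊓ Fx V s : AddSubgroup V) : Set V) k
        (fun a ha => mem_Fx.1 (hkA ha)) v
  have hgA : Fx V r ⊓ Fx V s ≤ Fx V g := fun a ha => mem_Fx.2 (hg1 a ha)
  by_cases hsum : v + k • v ∈ Fx V r ⊓ Fx V s
  · -- `g v = - v + α`
    have hgv : g • v = (v + k • v) - v := by rw [hg2]; abel
    have hgvt : g • v ∈ Fx V t := by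
      rw [hgv]; exact sub_mem (ht.2 hsum) hvt
    have hgvA : g • v ∉ Fx V r ⊓ Fx V s := by
      intro h1
      apply hvA
      have : v = (v + k • v) - g • v := by rw [hg2]; abel
      rw [this]
      exact sub_mem hsum h1
    have hgt : g * t * g⁻¹ = t := by
      refine uniq_t hb hp h (mem_RR_conj ht hgA) ht (x := g • v) ?_ hgvt hgvA
      rw [mem_Fx_conj, inv_smul_smul]; exact hvt
    have hgtc : g * t = t * g := by
      calc g * t = (g * t * g⁻¹) * g := by group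
        _ = t * g := by rw [hgt]
    rcases parity hp with h2 | h2
    · exfalso
      have hneg : ∀ v : V, -v = v := fun v => neg_eq_of_add_eq_zero_left (h2 v)
      rw [← Fx_eq_sup_even hb hp h2 h ht] at hvt
      obtain ⟨a, ha, w, hw, rfl⟩ := AddSubgroup.mem_sup.1 hvt
      have h3 : g • w ∈ Wx V t := smul_mem_Wx hgtc hw
      have h4 : g • w - w ∈ Wx V t := sub_mem h3 hw
      have h5 : g • w - w ∈ Fx V r ⊓ Fx V s := by
        have e1 : g • (a + w) = a + g • w := by rw [smul_add, hg1 a ha]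
        have e2 : g • w - w = g • (a + w) - (a + w) := by rw [e1]; abel
        rw [e2, hg2]
        have e3 : k • (a + w) - (a + w) = (a + w + k • (a + w)) - ((a + w) + (a + w)) := by abel
        rw [e3, h2, sub_zero]
        exact hsum
      have h6 : g • w - w ∈ (Fx V r ⊓ Fx V s) ⊓ Wx V t := ⟨h5, h4⟩
      rw [A_inf_Wx hb hp h ht] at h6
      have h7 : g • w = w := sub_eq_zero.1 h6
      apply hkv
      rw [← hg2, smul_add, hg1 a ha, h7]
    · obtain ⟨t', ht', hne, hc, hF1, hF2⟩ := partner hb hp h2 h ht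
      refine ⟨t', ht', ?_⟩
      rw [← hF1] at hvt
      obtain ⟨a, ha, w, hw, rfl⟩ := AddSubgroup.mem_sup.1 hvt
      have hgt' : g * t' * g⁻¹ = t' := by
        obtain ⟨y, hy1, hy2⟩ := exists_ne_of (Wx_ne_bot (V := V) ht.1.1)
        have hy3 : y ∈ Fx V t' := by
          rw [← hF2]; exact (le_sup_right : Wx V t ≤ _) hy1
        refine uniq_t hb hp h (mem_RR_conj ht' hgA) ht' (x := y) ?_ hy3 ?_
        · rw [mem_Fx_conj, ← hF2]
          refine (le_sup_right : Wx V t ≤ _) (smul_mem_Wx ?_ hy1)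
          calc g⁻¹ * t = g⁻¹ * (t * g) * g⁻¹ := by group
            _ = g⁻¹ * (g * t) * g⁻¹ := by rw [hgtc]
            _ = t * g⁻¹ := by group
        · intro hyA
          have : y ∈ (Fx V r ⊓ Fx V s) ⊓ Wx V t := ⟨hyA, hy1⟩
          rw [A_inf_Wx hb hp h ht] at this
          exact hy2 this
      have hgtc' : g * t' = t' * g := by
        calc g * t' = (g * t' * g⁻¹) * g := by group
          _ = t' * g := by rw [hgt']
      have h3 : g • w ∈ Wx V t' := smul_mem_Wx hgtc' hw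
      have h4 : g • w + w ∈ Wx V t' := add_mem h3 hw
      have h5 : g • w + w ∈ Fx V r ⊓ Fx V s := by
        have e1 : g • (a + w) = a + g • w := by rw [smul_add, hg1 a ha]
        have e2 : g • w + w = (a + w + g • (a + w)) - (a + a) := by rw [e1]; abel
        rw [e2, hg2]
        exact sub_mem hsum (add_mem ha ha)
      have h6 : g • w + w ∈ (Fx V r ⊓ Fx V s) ⊓ Wx V t' := ⟨h5, h4⟩
      rw [A_inf_Wx hb hp h ht'] at h6
      have h7 : g • w = -w := eq_neg_of_add_eq_zero_left h6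
      rw [← hg2, smul_add, smul_add, hg1 a ha, h7, ht'.1.neg hb hw, mem_Fx.1 (ht'.2 ha)]
  · obtain ⟨ρ, hρ, hρ2⟩ := cover hb h (v + k • v)
    rcases fixer hb hp h hρ hρ2 hsum hgA hg4 with h1 | h1
    · exfalso
      apply hkv
      rw [← hg2, h1, one_smul]
    · exact ⟨ρ, hρ, by rw [← h1]; exact hg2⟩

end

end Cfsg.Agent.H27.BPA
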