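import Cfsg.Agent.H27.BPA5

set_option autoImplicit false
set_option linter.unusedSectionVars false
set_option linter.deprecated false

/-!
S5753: proof of the structure theorem `ds`, counting part.
-/

namespace Cfsg.Agent.H27.BPA

variable {H V : Type*} [Group H] [AddCommGroup V] [DistribMulAction H V]

section

variable [Finite H]

/-- the finset of reflections fixing `A` -/
noncomputable def SS (A : AddSubgroup V) : Finset H := (Set.toFinite (RR (H := H) A)).toFinset

theorem mem_SS {A : AddSubgroup V} {t : H} : t ∈ SS (H := H) A ↔ t ∈ RR (H := H) A := by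
  simp [SS]

/-- sum of all the reflections fixing `A` -/
noncomputable def Sg (H : Type*) [Group H] [DistribMulAction H V] [Finite H]
    (A : AddSubgroup V) (v : V) : V := ∑ σ ∈ SS (H := H) A, σ • v

theorem Sg_sub (A : AddSubgroup V) (v w : V) : Sg H A (v - w) = Sg H A v - Sg H A w := by
  simp only [Sg, smul_sub, Finset.sum_sub_distrib]

theorem Sg_add (A : AddSubgroup V) (v w : V) : Sg H A (v + w) = Sg H A v + Sg H A w := by
  simp only [Sg, smul_add, Finset.sum_add_distrib]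

end

section

variable [FaithfulSMul H V] {p : ℕ} [Fact p.Prime] [Finite V] [Finite H]

theorem smul_inj (hb : Bin H V) (hp : ∀ v : V, p • v = 0)
    {r s : H} (h : NC V r s) {v : V} (hv : v ∉ Fx V r ⊓ Fx V s) {σ σ' : H}
    (hσ : σ ∈ RR (H := H) (Fx V r ⊓ Fx V s)) (hσ' : σ' ∈ RR (H := H) (Fx V r ⊓ Fx V s))
    (he : σ • v = σ' • v) : σ = σ' := by
  by_cases h0 : σ • v - v = 0
  · have h1 : σ • v = v := sub_eq_zero.1 h0
    exact uniq_t hb hp h hσ hσ' (x := v) (mem_Fx.2 h1) (mem_Fx.2 (by rw [← he, h1])) hv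
  · exact lemW hb hσ.1 hσ'.1 h0 (sub_mem_Wx σ v) (by rw [he]; exact sub_mem_Wx σ' v)

theorem card_RR (hb : Bin H V) (hp : ∀ v : V, p • v = 0)
    {r s : H} (h : NC V r s) :
    (SS (H := H) (Fx V r ⊓ Fx V s)).card = Nat.card (Wx V r) + 1 := by
  classical
  have := Fintype.ofFinite V
  set A := Fx V r ⊓ Fx V s with hA
  choose f hf1 hf2 using fun v : V => cover hb h v
  have h1 := Finset.card_eq_sum_card_fiberwise (f := f)
    (s := Finset.univ.filter (fun v : V => v ∉ A)) (t := SS (H := H) A)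
    (fun v _ => mem_SS.2 (hf1 v))
  have h2 : ∀ t ∈ SS (H := H) A, (Finset.filter (fun v => f v = t)
      (Finset.univ.filter (fun v : V => v ∉ A))).card =
      Nat.card A * Nat.card (Wx V r) - Nat.card A := by
    intro t ht
    have ht' := mem_SS.1 ht
    have e : ((Finset.filter (fun v => f v = t)
      (Finset.univ.filter (fun v : V => v ∉ A)) : Finset V) : Set V) =
        (Fx V t : Set V) \ (A : Set V) := by
      ext v
      simp only [Finset.coe_filter, Finset.mem_filter, Finset.mem_univ, true_and,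
        Set.mem_setOf_eq, Set.mem_diff, SetLike.mem_coe]
      constructor
      · rintro ⟨hv, rfl⟩
        exact ⟨hf2 v, hv⟩
      · rintro ⟨hv1, hv2⟩
        exact ⟨hv2, uniq_t hb hp h (hf1 v) ht' (hf2 v) hv1 hv2⟩
    rw [← Set.ncard_coe_finset, e, Set.ncard_diff (SetLike.coe_subset_coe.2 ht'.2)
      (Set.toFinite _)]
    rw [← Nat.card_coe_set_eq, ← Nat.card_coe_set_eq, card_Fx_RR hb hp h ht']
    rfl
  rw [Finset.sum_congr rfl h2, Finset.sum_const, smul_eq_mul] at h1
  have h3 : (Finset.univ.filter (fun v : V => v ∉ A)).card = Nat.card V - Nat.card A := by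
    have e : ((Finset.univ.filter (fun v : V => v ∉ A) : Finset V) : Set V) =
        (Set.univ : Set V) \ (A : Set V) := by
      ext v; simp
    rw [← Set.ncard_coe_finset, e, Set.ncard_diff (Set.subset_univ _) (Set.toFinite _)]
    rw [← Nat.card_coe_set_eq, ← Nat.card_coe_set_eq, Nat.card_congr (Equiv.Set.univ V)]
    rfl
  rw [h3, ← card_A hb hp h.hr h.hs h.nc] at h1
  change Nat.card A * _ - _ = _ at h1
  have hq := two_le_card_Wx (V := V) h.hr.1
  have ha : 0 < Nat.card A := card_pos' _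
  obtain ⟨m, hm⟩ : ∃ m, Nat.card (Wx V r) = m + 1 := ⟨Nat.card (Wx V r) - 1, by omega⟩
  have hm0 : 0 < m := by omega
  rw [hm] at h1 ⊢
  have e1 : Nat.card A * (m + 1) ^ 2 - Nat.card A = (m + 1 + 1) * (Nat.card A * m) := by
    rw [Nat.sub_eq_iff_eq_add (by nlinarith [Nat.zero_le (Nat.card A * m)])]
    ring
  have e2 : Nat.card A * (m + 1) - Nat.card A = Nat.card A * m := by
    rw [mul_add, mul_one, Nat.add_sub_cancel]
  rw [e1, e2] at h1
  exact (Nat.eq_of_mul_eq_mul_right (Nat.mul_pos ha hm0) h1).symm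

theorem Sg_A (hb : Bin H V) (hp : ∀ v : V, p • v = 0)
    {r s : H} (h : NC V r s) {v : V} (hv : v ∈ Fx V r ⊓ Fx V s) :
    Sg H (Fx V r ⊓ Fx V s) v = v := by
  unfold Sg
  rw [Finset.sum_congr rfl (g := fun _ => v)
    (fun σ hσ => mem_Fx.1 ((mem_SS.1 hσ).2 hv)), Finset.sum_const, card_RR hb hp h, add_smul,
    one_smul]
  obtain ⟨c, hc⟩ := dvd_card hp (Wx_ne_bot (V := V) h.hr.1)
  rw [hc, mul_comm, mul_smul, hp, smul_zero, zero_add]

theorem smul_notMem {A : AddSubgroup V} {k : H} (hk : A ≤ Fx V k) {v : V} (hv : v ∉ A) :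
    k • v ∉ A := by
  intro h
  apply hv
  have h1 : k⁻¹ • (k • v) = k • v := mem_Fx.1 (mem_inv (hk h))
  rw [inv_smul_smul] at h1
  rw [h1]; exact h

theorem Sg_smul (hb : Bin H V) (hp : ∀ v : V, p • v = 0)
    {r s : H} (h : NC V r s) {k : H} (hk : Fx V r ⊓ Fx V s ≤ Fx V k) (v : V) :
    k • Sg H (Fx V r ⊓ Fx V s) v = Sg H (Fx V r ⊓ Fx V s) v ∧
    Sg H (Fx V r ⊓ Fx V s) (k • v) = Sg H (Fx V r ⊓ Fx V s) v := by
  classical
  set A := Fx V r ⊓ Fx V s with hA
  by_cases hv : v ∈ A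
  · rw [mem_Fx.1 (hk hv), Sg_A hb hp h hv]
    exact ⟨mem_Fx.1 (hk hv), rfl⟩
  have hinj : ∀ u : V, u ∉ A → ∀ σ ∈ SS (H := H) A, ∀ σ' ∈ SS (H := H) A, σ • u = σ' • u → σ = σ' :=
    fun u hu σ hσ σ' hσ' he => smul_inj hb hp h hu (mem_SS.1 hσ) (mem_SS.1 hσ') he
  have hsum : ∀ u : V, u ∉ A → Sg H A u = ∑ x ∈ (SS (H := H) A).image (fun σ => σ • u), x := by
    intro u hu
    rw [Finset.sum_image (fun σ hσ σ' hσ' he => hinj u hu σ hσ σ' hσ' he)]
    rfl
  have hcard : ∀ u : V, u ∉ A → ((SS (H := H) A).image (fun σ => σ • u)).card =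
      (SS (H := H) A).card := fun u hu =>
    Finset.card_image_of_injOn (fun σ hσ σ' hσ' he => hinj u hu σ hσ σ' hσ' he)
  constructor
  · rw [hsum v hv]
    set O := (SS (H := H) A).image (fun σ => σ • v) with hO
    have hOk : O.image (fun x => k • x) = O := by
      apply Finset.eq_of_subset_of_card_le
      · intro x hx
        obtain ⟨y, hy, rfl⟩ := Finset.mem_image.1 hx
        obtain ⟨σ, hσ, rfl⟩ := Finset.mem_image.1 hy
        obtain ⟨τ, hτ, hτ2⟩ := orb hb hp h (k := k * σ)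
          (fun a ha => mem_mul (hk ha) ((mem_SS.1 hσ).2 ha)) v
        rw [hO]
        refine Finset.mem_image.2 ⟨τ, mem_SS.2 hτ, ?_⟩
        rw [hτ2, mul_smul]
      · rw [Finset.card_image_of_injective _ (MulAction.injective k)]
    calc k • ∑ x ∈ O, x = ∑ x ∈ O, k • x := Finset.smul_sum
      _ = ∑ x ∈ O.image (fun x => k • x), x := by
        rw [Finset.sum_image (fun a _ b _ hab => MulAction.injective k hab)]
      _ = _ := by rw [hOk]
  · have hkv := smul_notMem (V := V) hk hv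
    rw [hsum v hv, hsum _ hkv]
    congr 1
    apply Finset.eq_of_subset_of_card_le
    · intro x hx
      obtain ⟨σ, hσ, rfl⟩ := Finset.mem_image.1 hx
      obtain ⟨τ, hτ, hτ2⟩ := orb hb hp h (k := σ * k)
        (fun a ha => mem_mul ((mem_SS.1 hσ).2 ha) (hk ha)) v
      refine Finset.mem_image.2 ⟨τ, mem_SS.2 hτ, ?_⟩
      rw [hτ2, mul_smul]
    · rw [hcard v hv, hcard _ hkv]

theorem Sg_mem (hb : Bin H V) (hp : ∀ v : V, p • v = 0)
    {r s : H} (h : NC V r s) (v : V) : Sg H (Fx V r ⊓ Fx V s) v ∈ Fx V r ⊓ Fx V s :=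
  ⟨mem_Fx.2 (Sg_smul hb hp h inf_le_left v).1, mem_Fx.2 (Sg_smul hb hp h inf_le_right v).1⟩

omit [FaithfulSMul H V] [Finite V] in
theorem Sg_add' (A : AddSubgroup V) (v w : V) : Sg H A (v + w) = Sg H A v + Sg H A w := Sg_add A v w

/-- the kernel of `Sg` -/
noncomputable def Zk (H : Type*) [Group H] [DistribMulAction H V] [Finite H]
    (A : AddSubgroup V) : AddSubgroup V :=
  (AddMonoidHom.mk' (Sg H A) (Sg_add A)).ker

theorem mem_Zk {A : AddSubgroup V} {v : V} : v ∈ Zk H A ↔ Sg H A v = 0 := Iff.rfl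

theorem Wx_le_Zk (hb : Bin H V) (hp : ∀ v : V, p • v = 0)
    {r s : H} (h : NC V r s) {t : H} (ht : t ∈ RR (H := H) (Fx V r ⊓ Fx V s)) :
    Wx V t ≤ Zk H (Fx V r ⊓ Fx V s) := by
  rintro w ⟨v, rfl⟩
  rw [mem_Zk, dl_apply, Sg_sub, (Sg_smul hb hp h ht.2 v).2, sub_self]

theorem sup_eq_Zk (hb : Bin H V) (hp : ∀ v : V, p • v = 0)
    {r s : H} (h : NC V r s) : Wx V r ⊔ Wx V s = Zk H (Fx V r ⊓ Fx V s) := by
  apply eq_of_card
  · exact sup_le (Wx_le_Zk hb hp h (mem_RR_r r s h.hr)) (Wx_le_Zk hb hp h (mem_RR_s r s h.hs))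
  · have h1 : Zk H (Fx V r ⊓ Fx V s) ⊓ (Fx V r ⊓ Fx V s) = ⊥ := by
      rw [disj_iff]
      intro v hv1 hv2
      rw [mem_Zk, Sg_A hb hp h hv2] at hv1
      exact hv1
    have h2 := card_mul_le h1
    rw [← card_A hb hp h.hr h.hs h.nc, mul_comm] at h2
    rw [card_sup_of_disj (Wx_inf hb h.hr h.hs h.ne), card_Wx_eq hb h.hr h.hs h.nc, ← pow_two]
    exact Nat.le_of_mul_le_mul_left h2 (card_pos' _)

theorem ds (hb : Bin H V) (hp : ∀ v : V, p • v = 0)
    {r s : H} (h : NC V r s) : DS V r s where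
  card := by
    rw [← card_RR hb hp h, SS, ← Set.ncard_eq_toFinset_card]
  uniq := fun t ht t' ht' v h1 h2 h3 => uniq_t hb hp h ht ht' h1 h2 h3
  cover := cover hb h
  wle := fun t ht => by
    rw [sup_eq_Zk hb hp h]; exact Wx_le_Zk hb hp h ht
  wcover := by
    classical
    intro u hu
    by_cases hu0 : u = 0
    · exact ⟨r, mem_RR_r r s h.hr, by rw [hu0]; exact zero_mem _⟩
    set A := Fx V r ⊓ Fx V s with hA
    set T : Finset V := (Set.toFinite (((Wx V r ⊔ Wx V s : AddSubgroup V) : Set V) \ {0})).toFinset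
      with hT
    set g : H → Finset V := fun t => (Set.toFinite ((Wx V t : Set V) \ {0})).toFinset with hg
    set B : Finset V := (SS (H := H) A).biUnion g with hB
    have hcard : ∀ M : AddSubgroup V, (Set.toFinite ((M : Set V) \ {0})).toFinset.card =
        Nat.card M - 1 := by
      intro M
      rw [← Set.ncard_eq_toFinset_card, Set.ncard_diff
        (by rw [Set.singleton_subset_iff]; exact M.zero_mem) (Set.toFinite _),
        Set.ncard_singleton, ← Nat.card_coe_set_eq]
      rfl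
    have hTc : T.card = Nat.card (Wx V r) ^ 2 - 1 := by
      rw [hT, hcard, card_sup_of_disj (Wx_inf hb h.hr h.hs h.ne), card_Wx_eq hb h.hr h.hs h.nc,
        pow_two]
    have hBc : B.card = (Nat.card (Wx V r) + 1) * (Nat.card (Wx V r) - 1) := by
      rw [hB, Finset.card_biUnion]
      · rw [Finset.sum_congr rfl (g := fun _ => Nat.card (Wx V r) - 1)]
        · rw [Finset.sum_const, smul_eq_mul, card_RR hb hp h]
        · intro t ht
          rw [hg]
          simp only
          rw [hcard, card_Wx_RR hb hp h (mem_SS.1 ht)]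
      · intro t ht t' ht' hne
        show Disjoint (g t) (g t')
        rw [Finset.disjoint_left]
        intro w hw hw'
        simp only [hg, Set.Finite.mem_toFinset, Set.mem_diff, SetLike.mem_coe,
          Set.mem_singleton_iff] at hw hw'
        exact hne (lemW hb (mem_SS.1 ht).1 (mem_SS.1 ht').1 hw.2 hw.1 hw'.1)
    have hBT : B ⊆ T := by
      intro w hw
      obtain ⟨t, ht, hwt⟩ := Finset.mem_biUnion.1 hw
      simp only [hg, Set.Finite.mem_toFinset, Set.mem_diff, SetLike.mem_coe,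
          Set.mem_singleton_iff] at hwt
      simp only [hT, Set.Finite.mem_toFinset, Set.mem_diff, SetLike.mem_coe,
          Set.mem_singleton_iff]
      refine ⟨?_, hwt.2⟩
      rw [sup_eq_Zk hb hp h]
      exact Wx_le_Zk hb hp h (mem_SS.1 ht) hwt.1
    have hBT2 : B = T := by
      apply Finset.eq_of_subset_of_card_le hBT
      rw [hTc, hBc]
      have := Nat.sq_sub_sq (Nat.card (Wx V r)) 1
      rw [one_pow] at this
      rw [this]
    have huT : u ∈ T := by
      simp only [hT, Set.Finite.mem_toFinset, Set.mem_diff, SetLike.mem_coe,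
          Set.mem_singleton_iff]
      exact ⟨hu, hu0⟩
    rw [← hBT2] at huT
    obtain ⟨t, ht, hut⟩ := Finset.mem_biUnion.1 huT
    simp only [hg, Set.Finite.mem_toFinset, Set.mem_diff, SetLike.mem_coe,
          Set.mem_singleton_iff] at hut
    exact ⟨t, mem_SS.1 ht, hut.1⟩
  fixer := fun t ht x hx hxA g hg hgx => fixer hb hp h ht hx hxA hg hgx
  orb := fun g hg v => orb hb hp h hg v

end

end Cfsg.Agent.H27.BPA
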