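import Cfsg.Agent.H27.BPA6

set_option autoImplicit false
set_option linter.unusedSectionVars false
set_option linter.deprecated false

/-!
S5753: uniqueness for `p = 2`.
-/

namespace Cfsg.Agent.H27.BPA

variable {H V : Type*} [Group H] [AddCommGroup V] [DistribMulAction H V]

section

variable [FaithfulSMul H V] {p : ℕ} [Fact p.Prime] [Finite V] [Finite H]

/-- a reflection of the same size commutes with a reflection in every dihedral point -/
theorem exists_comm (hb : Bin H V) (hp : ∀ v : V, p • v = 0) {a b u : H} (h : NC V a b)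
    (hu : IsRf V u) (hc : Nat.card (Wx V u) = Nat.card (Wx V a)) :
    ∃ σ ∈ RR (H := H) (Fx V a ⊓ Fx V b), u * σ = σ * u := by
  have hne : Fx V u ⊓ (Wx V a ⊔ Wx V b) ≠ ⊥ := by
    intro h0
    have h1 := card_mul_le h0
    rw [card_sup_of_disj (Wx_inf hb h.hr h.hs h.ne), card_Wx_eq hb h.hr h.hs h.nc,
      ← card_Fx_Wx (V := V) u, hc] at h1
    have h2 := Nat.le_of_mul_le_mul_left h1 (card_pos' _)
    have h3 := two_le_card_Wx (V := V) h.hr.1
    nlinarith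
  obtain ⟨x, hx, hx0⟩ := exists_ne_of hne
  obtain ⟨σ, hσ, hxσ⟩ := (ds hb hp h).wcover x hx.2
  exact ⟨σ, hσ, comm_of_fix hb hσ.1 hx0 hxσ (mem_Fx.1 hx.1)⟩

theorem eq_of_comm_even (hb : Bin H V) (hp : ∀ v : V, p • v = 0) (h2 : ∀ v : V, v + v = 0)
    {r s t t' : H} (h : NC V r s) (ht : t ∈ RR (H := H) (Fx V r ⊓ Fx V s))
    (ht' : t' ∈ RR (H := H) (Fx V r ⊓ Fx V s)) (hc : t * t' = t' * t) : t = t' :=
  L2 hb hp h2 h ht ht' (Fx_eq_even hb hp h2 h ht ht' hc)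

theorem inf_eq' (hb : Bin H V) (hp : ∀ v : V, p • v = 0)
    {r s t t' : H} (h : NC V r s) (ht : t ∈ RR (H := H) (Fx V r ⊓ Fx V s))
    (ht' : t' ∈ RR (H := H) (Fx V r ⊓ Fx V s)) (hne : t ≠ t') :
    Fx V t ⊓ Fx V t' = Fx V r ⊓ Fx V s := by
  apply inf_eq hb hp h ht ht'
  intro he
  rcases parity hp with h2 | h2
  · exact hne (L2 hb hp h2 h ht ht' he)
  · exact hne (eq_of_Fx_odd hb h2 ht.1 ht'.1 he)

/-- injectivity lemma -/
theorem lemE (hb : Bin H V) (hp : ∀ v : V, p • v = 0) (h2 : ∀ v : V, v + v = 0)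
    {v1 v2 s0 : H} (h1 : NC V s0 v1) (h1' : NC V s0 v2) (hne : v1 ≠ v2) (hc : v1 * v2 = v2 * v1)
    {w : V} (hw0 : w ≠ 0) (hw : w ∈ Wx V s0)
    (he : s0 • (v1 • w - w) - (v1 • w - w) = s0 • (v2 • w - w) - (v2 • w - w)) : False := by
  have hneg : ∀ v : V, -v = v := fun v => neg_eq_of_add_eq_zero_left (h2 v)
  set a := v1 • w - w with ha
  set b := v2 • w - w with hb'
  have hs0c : s0 • (a + b) = a + b := by
    have e1 : s0 • a = a + (s0 • b - b) := by rw [← he]; abel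
    rw [smul_add, e1]
    have e2 : a + (s0 • b - b) + s0 • b = a - b + (s0 • b + s0 • b) := by abel
    rw [e2, h2, add_zero, sub_eq_add_neg, hneg]
  have haW : a ∈ Wx V v1 := sub_mem_Wx v1 w
  have hbW : b ∈ Wx V v2 := sub_mem_Wx v2 w
  have hw2 : v2 • w = w + b := by rw [hb']; abel
  have hw1 : v1 • w = w + a := by rw [ha]; abel
  have hv1b : v1 • b = b := comm_fix hb h1.hs h1'.hs hne hc hbW
  have hv1a : v1 • a = a := by rw [h1.hs.neg hb haW, hneg]
  have hv2a : v2 • a = a := comm_fix hb h1'.hs h1.hs hne.symm hc.symm haW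
  have hprod : (v1 * v2) • w = w + (a + b) := by
    rw [mul_smul, hw2, smul_add, hw1, hv1b]; abel
  have hs0w : s0 • w = w := by rw [h1.hr.neg hb hw, hneg]
  have ha0 : a ≠ 0 := fun h0 => hw0 (nc_disj hb h1.hr h1.symm.nc hw (sub_eq_zero.1 h0))
  have hc0 : a + b ≠ 0 := by
    intro h0
    have : a = b := by
      have := eq_neg_of_add_eq_zero_left h0
      rw [this, hneg]
    exact hne (lemW hb h1.hs h1'.hs ha0 haW (this ▸ hbW))
  obtain ⟨c, hc1, hc2⟩ := plem hb (v1 * v2) w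
  rw [hprod] at hc1 hc2
  -- the intersection is not inside `Fx s0`
  have hE : ∃ e, e ∈ Fx V v1 ⊓ Fx V v2 ∧ e ∉ Fx V s0 := by
    by_contra hcon
    push Not at hcon
    have hle1 : Fx V v1 ⊓ Fx V v2 ≤ Fx V s0 ⊓ Fx V v1 := fun e he => ⟨hcon e he, he.1⟩
    have hle2 : Fx V v1 ⊓ Fx V v2 ≤ Fx V s0 ⊓ Fx V v2 := fun e he => ⟨hcon e he, he.2⟩
    have c1 := card_A hb hp h1.hr h1.hs h1.nc
    have c2 := card_A hb hp h1'.hr h1'.hs h1'.nc
    have c3 := card_sup_inf (Fx V v1) (Fx V v2)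
    have c4 : Nat.card ↥(Fx V v1 ⊔ Fx V v2) ≤ Nat.card V := Finite.card_subtype_le _
    have c5 := card_Fx_Wx (V := V) v1
    have c6 := card_Fx_Wx (V := V) v2
    rw [card_Wx_eq hb h1.hr h1.hs h1.nc] at c5
    rw [card_Wx_eq hb h1'.hr h1'.hs h1'.nc] at c6
    have hq := card_pos' (Wx V s0)
    have hV : 0 < Nat.card V := Nat.card_pos
    set q := Nat.card (Wx V s0)
    set F1 := Nat.card (Fx V v1)
    set F2 := Nat.card (Fx V v2)
    set E := Nat.card ↥(Fx V v1 ⊓ Fx V v2)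
    set N := Nat.card V
    have c7 : N ≤ E * q ^ 2 := by
      have : N * N ≤ N * (E * q ^ 2) := by
        calc N * N = (F1 * F2) * (q * q) := by nth_rw 1 [← c5]; rw [← c6]; ring
          _ = (Nat.card ↥(Fx V v1 ⊔ Fx V v2) * E) * (q * q) := by rw [c3]
          _ ≤ (N * E) * (q * q) := by gcongr
          _ = N * (E * q ^ 2) := by ring
      exact Nat.le_of_mul_le_mul_left this hV
    have e1 : Fx V v1 ⊓ Fx V v2 = Fx V s0 ⊓ Fx V v1 := by
      apply eq_of_card hle1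
      rw [← c1] at c7
      exact Nat.le_of_mul_le_mul_right c7 (pow_pos hq 2)
    have hmem1 : v1 ∈ RR (H := H) (Fx V s0 ⊓ Fx V v1) := ⟨h1.hs, inf_le_right⟩
    have hmem2 : v2 ∈ RR (H := H) (Fx V s0 ⊓ Fx V v1) := ⟨h1'.hs, by rw [← e1]; exact inf_le_right⟩
    exact hne (eq_of_comm_even hb hp h2 h1 hmem1 hmem2 hc)
  obtain ⟨e, he1, he2⟩ := hE
  have hec : e ∈ Fx V c := by
    apply hc2 (v1 * v2) hprod
    exact mem_mul he1.1 he1.2
  have hs0s0 := h1.hr.sq hb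
  have hec' : s0 • e ∈ Fx V c := by
    apply hc2 (s0 * (v1 * v2) * s0⁻¹)
    · rw [mul_smul, mul_smul, h1.hr.inv hb, hs0w, hprod, smul_add, hs0w, hs0c]
    · rw [mem_Fx_conj, inv_smul_smul]
      exact mem_mul he1.1 he1.2
  have hy : s0 • e - e ∈ Fx V c := sub_mem hec' hec
  have hy0 : s0 • e - e ≠ 0 := fun h0 => he2 (mem_Fx.2 (sub_eq_zero.1 h0))
  have hcs : c * s0 = s0 * c := comm_of_fix hb h1.hr hy0 (sub_mem_Wx s0 e) (mem_Fx.1 hy)
  have hcw : c • w ∈ Wx V s0 := smul_mem_Wx hcs hw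
  rw [hc1] at hcw
  have hab : a + b ∈ Wx V s0 := by
    have : a + b = (w + (a + b)) - w := by abel
    rw [this]
    exact sub_mem hcw hw
  have hv1ab : v1 • (a + b) = a + b := by rw [smul_add, hv1a, hv1b]
  exact hc0 (nc_disj hb h1.hr h1.symm.nc hab hv1ab)

end

end Cfsg.Agent.H27.BPA
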