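import Cfsg.Agent.H27.BPA7

set_option autoImplicit false
set_option linter.unusedSectionVars false
set_option linter.deprecated false

/-!
S5753: uniqueness for `p = 2`, counting.
-/

namespace Cfsg.Agent.H27.BPA

variable {H V : Type*} [Group H] [AddCommGroup V] [DistribMulAction H V]

section

variable [FaithfulSMul H V] {p : ℕ} [Fact p.Prime] [Finite V] [Finite H]

theorem card_SS (hb : Bin H V) (hp : ∀ v : V, p • v = 0) {a b : H} (h : NC V a b) :
    (SS (H := H) (Fx V a ⊓ Fx V b)).card = Nat.card (Wx V a) + 1 := card_RR hb hp h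

theorem uniq_even (hb : Bin H V) (hp : ∀ v : V, p • v = 0) (h2 : ∀ v : V, v + v = 0)
    {r s t : H} (h1 : NC V s r) (h1' : NC V s t) :
    Fx V s ⊓ Fx V r = Fx V s ⊓ Fx V t := by
  classical
  by_contra hAB
  have hneg : ∀ v : V, -v = v := fun v => neg_eq_of_add_eq_zero_left (h2 v)
  set C : AddSubgroup V := (Fx V s ⊓ Fx V r) ⊓ Fx V t with hC
  set q := Nat.card (Wx V s) with hq
  have hq2 : 2 ≤ q := two_le_card_Wx h1.hr.1
  have hqt : Nat.card (Wx V t) = q := card_Wx_eq hb h1'.hr h1'.hs h1'.nc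
  have hqr : Nat.card (Wx V r) = q := card_Wx_eq hb h1.hr h1.hs h1.nc
  have hsC : s ∈ RR (H := H) C := ⟨h1.hr, fun v hv => hv.1.1⟩
  have hrC : r ∈ RR (H := H) C := ⟨h1.hs, fun v hv => hv.1.2⟩
  have htC : t ∈ RR (H := H) C := ⟨h1'.hs, fun v hv => hv.2⟩
  have htA : t ∉ RR (H := H) (Fx V s ⊓ Fx V r) := by
    intro ht
    apply hAB
    have := (ds hb hp h1).uniq
    have hne : s ≠ t := h1'.ne
    exact (inf_eq' hb hp h1 (mem_RR_r s r h1.hr) ht hne).symm
  -- (0) the size of `C`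
  have c0 : Nat.card V ≤ q ^ 3 * Nat.card C := by
    have e1 := card_A hb hp h1.hr h1.hs h1.nc
    have e2 := card_sup_inf (Fx V s ⊓ Fx V r) (Fx V t)
    have e3 : Nat.card ↥((Fx V s ⊓ Fx V r) ⊔ Fx V t) ≤ Nat.card V := Finite.card_subtype_le _
    have e4 := card_Fx_Wx (V := V) t
    rw [hqt] at e4
    rw [← hC] at e2
    rw [← hq] at e1
    have hV : 0 < Nat.card V := Nat.card_pos
    set N := Nat.card V
    set a := Nat.card ↥(Fx V s ⊓ Fx V r)
    set T := Nat.card ↥(Fx V t)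
    set c := Nat.card C
    have : N * N ≤ N * (q ^ 3 * c) := by
      calc N * N = (a * q ^ 2) * (T * q) := by rw [e1, e4]
        _ = (a * T) * q ^ 3 := by ring
        _ = (Nat.card ↥((Fx V s ⊓ Fx V r) ⊔ Fx V t) * c) * q ^ 3 := by rw [e2]
        _ ≤ (N * c) * q ^ 3 := by gcongr
        _ = _ := by ring
    exact Nat.le_of_mul_le_mul_left this hV
  -- (1)
  have s1 : ∀ u v : H, u ∈ RR (H := H) C → v ∈ RR (H := H) C → NC V u v →
      Nat.card (Wx V u) = q := by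
    intro u v hu hv huv
    by_contra hcard
    have cm : ∀ x : H, IsRf V x → Nat.card (Wx V x) = q → u * x = x * u := by
      intro x hx hxq
      by_contra hc
      exact hcard (by rw [← hxq]; exact (card_Wx_eq hb hu.1 hx hc).symm)
    have cr := cm r h1.hs hqr
    have cs := cm s h1.hr rfl
    have ct := cm t h1'.hs hqt
    have nr : u ≠ r := by rintro rfl; exact hcard hqr
    have ns : u ≠ s := by rintro rfl; exact hcard rfl
    have nt : u ≠ t := by rintro rfl; exact hcard hqt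
    obtain ⟨w, hw, hw0⟩ := exists_ne_of (Wx_ne_bot (V := V) hu.1.1)
    have w1 : w ∈ C := ⟨⟨mem_Fx.2 (comm_fix hb h1.hr hu.1 ns.symm cs.symm hw),
      mem_Fx.2 (comm_fix hb h1.hs hu.1 nr.symm cr.symm hw)⟩,
      mem_Fx.2 (comm_fix hb h1'.hs hu.1 nt.symm ct.symm hw)⟩
    exact hw0 (nc_disj hb huv.hr huv.symm.nc hw (mem_Fx.1 (hv.2 w1)))
  -- (2) commuting is transitive
  have s2 : ∀ s0 v0 u v : H, s0 ∈ RR (H := H) C → v0 ∈ RR (H := H) C → NC V s0 v0 →
      u ∈ RR (H := H) C → v ∈ RR (H := H) C → u * s0 = s0 * u → v * s0 = s0 * v →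
      u * v = v * u := by
    intro s0 v0 u v hs0 hv0 hsv hu hv hcu hcv
    by_contra hc
    have huv : NC V u v := ⟨hu.1, hv.1, hc⟩
    have n1 : u ≠ s0 := by rintro rfl; exact hc hcv.symm
    have n2 : v ≠ s0 := by rintro rfl; exact hc hcu
    have hqu := s1 u v hu hv huv
    have hqs0 := s1 s0 v0 hs0 hv0 hsv
    have hW1 : Wx V s0 ≤ Fx V u := fun w hw => mem_Fx.2 (comm_fix hb hu.1 hs0.1 n1 hcu hw)
    have hW2 : Wx V s0 ≤ Fx V v := fun w hw => mem_Fx.2 (comm_fix hb hv.1 hs0.1 n2 hcv hw)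
    have hdis : C ⊓ Wx V s0 = ⊥ := by
      rw [disj_iff]
      intro w hw1 hw2
      exact nc_disj hb hsv.hr hsv.symm.nc hw2 (mem_Fx.1 (hv0.2 hw1))
    have hle : C ⊔ Wx V s0 ≤ Fx V u ⊓ Fx V v :=
      sup_le (le_inf hu.2 hv.2) (le_inf hW1 hW2)
    have e1 := card_A hb hp hu.1 hv.1 hc
    rw [hqu] at e1
    have heq : C ⊔ Wx V s0 = Fx V u ⊓ Fx V v := by
      apply eq_of_card hle
      rw [card_sup_of_disj hdis, hqs0]
      have : Nat.card ↥(Fx V u ⊓ Fx V v) * q ^ 2 ≤ (Nat.card C * q) * q ^ 2 := by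
        rw [e1]
        calc Nat.card V ≤ q ^ 3 * Nat.card C := c0
          _ = _ := by ring
      exact Nat.le_of_mul_le_mul_right this (by positivity)
    have hP : Fx V u ⊓ Fx V v ≤ Fx V s0 := by
      rw [← heq]
      refine sup_le hs0.2 (fun w hw => ?_)
      rw [mem_Fx, hs0.1.neg hb hw, hneg]
    have hU : Wx V u ⊔ Wx V v ≤ Fx V s0 :=
      sup_le (fun w hw => mem_Fx.2 (comm_fix hb hs0.1 hu.1 n1.symm hcu.symm hw))
        (fun w hw => mem_Fx.2 (comm_fix hb hs0.1 hv.1 n2.symm hcv.symm hw))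
    have htop := sup_top hb hp hu.1 hv.1 hc
    obtain ⟨x, hx⟩ := hs0.1.exists_notMem
    apply hx
    have := sup_le hU hP
    rw [htop] at this
    exact this (AddSubgroup.mem_top x)
  -- the set `R0`
  set R0 : Finset H := (SS (H := H) C).filter (fun u => ∃ v ∈ RR (H := H) C, NC V u v) with hR0
  have memR0 : ∀ u : H, u ∈ R0 ↔ u ∈ RR (H := H) C ∧ ∃ v ∈ RR (H := H) C, NC V u v := by
    intro u
    rw [hR0, Finset.mem_filter, mem_SS]
  have htR0 : t ∈ R0 := (memR0 t).2 ⟨htC, s, hsC, h1'.symm⟩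
  have hAR0 : ∀ σ ∈ RR (H := H) (Fx V s ⊓ Fx V r), σ ∈ R0 := by
    intro σ hσ
    refine (memR0 σ).2 ⟨⟨hσ.1, fun v hv => hσ.2 hv.1⟩, ?_⟩
    rcases nc_one hb hp h1 hσ with h | h
    · exact ⟨s, hsC, h⟩
    · exact ⟨r, hrC, h⟩
  -- (5) bound of the classes
  have s5 : ∀ σ ∈ R0, (R0.filter (fun u => u * σ = σ * u)).card ≤ q - 1 := by
    intro σ hσ
    obtain ⟨hσC, s0, hs0C, hσs0⟩ := (memR0 σ).1 hσ
    obtain ⟨w, hw, hw0⟩ := exists_ne_of (Wx_ne_bot (V := V) hs0C.1.1)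
    have hncu : ∀ u ∈ R0.filter (fun u => u * σ = σ * u), NC V s0 u := by
      intro u hu
      rw [Finset.mem_filter] at hu
      obtain ⟨huR, huσ⟩ := hu
      obtain ⟨huC, v0, hv0, huv0⟩ := (memR0 u).1 huR
      refine ⟨hs0C.1, huC.1, fun hc => ?_⟩
      exact hσs0.nc (s2 u v0 σ s0 huC hv0 huv0 hσC hs0C huσ.symm hc)
    have hcard : (Set.toFinite ((Wx V s0 : Set V) \ {0})).toFinset.card = q - 1 := by
      rw [← Set.ncard_eq_toFinset_card, Set.ncard_diff
        (by rw [Set.singleton_subset_iff]; exact (Wx V s0).zero_mem) (Set.toFinite _),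
        Set.ncard_singleton, ← Nat.card_coe_set_eq]
      have := s1 s0 σ hs0C hσC hσs0.symm
      rw [← this]
      rfl
    rw [← hcard]
    apply Finset.card_le_card_of_injOn (fun u => s0 • (u • w - w) - (u • w - w))
    · intro u hu
      have hnc := hncu u hu
      simp only [Set.Finite.coe_toFinset, Set.mem_diff, SetLike.mem_coe, Set.mem_singleton_iff]
      refine ⟨sub_mem_Wx s0 _, fun h0 => ?_⟩
      have h3 : s0 • (u • w - w) = u • w - w := sub_eq_zero.1 h0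
      have h4 := nc_disj hb hnc.hs hnc.nc (sub_mem_Wx u w) h3
      exact hw0 (nc_disj hb hnc.hr hnc.symm.nc hw (sub_eq_zero.1 h4))
    · intro u hu v hv he
      by_contra hne
      have hu' := (Finset.mem_filter.1 (Finset.mem_coe.1 hu))
      have hv' := (Finset.mem_filter.1 (Finset.mem_coe.1 hv))
      have huC := ((memR0 u).1 hu'.1).1
      have hvC := ((memR0 v).1 hv'.1).1
      have hcuv : u * v = v * u := s2 σ s0 u v hσC hs0C hσs0 huC hvC hu'.2 hv'.2
      exact lemE hb hp h2 (hncu u hu) (hncu v hv) hne hcuv hw0 hw he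
  -- (6) upper bound
  have upper : R0.card ≤ (q + 1) * (q - 1) := by
    have hsub : R0 ⊆ (SS (H := H) (Fx V s ⊓ Fx V r)).biUnion
        (fun σ => R0.filter (fun u => u * σ = σ * u)) := by
      intro u hu
      obtain ⟨huC, v0, hv0, huv0⟩ := (memR0 u).1 hu
      obtain ⟨σ, hσ, hc⟩ := exists_comm hb hp h1 huC.1 (s1 u v0 huC hv0 huv0)
      rw [Finset.mem_biUnion]
      exact ⟨σ, mem_SS.2 hσ, Finset.mem_filter.2 ⟨hu, hc⟩⟩
    calc R0.card ≤ _ := Finset.card_le_card hsub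
      _ ≤ ∑ σ ∈ SS (H := H) (Fx V s ⊓ Fx V r), (R0.filter (fun u => u * σ = σ * u)).card :=
        Finset.card_biUnion_le
      _ ≤ ∑ σ ∈ SS (H := H) (Fx V s ⊓ Fx V r), (q - 1) :=
        Finset.sum_le_sum (fun σ hσ => s5 σ (hAR0 σ (mem_SS.1 hσ)))
      _ = _ := by rw [Finset.sum_const, smul_eq_mul, card_SS hb hp h1]
  -- (7) lower bound
  obtain ⟨σ, hσ, hσt⟩ := exists_comm hb hp h1 h1'.hs hqt
  have hσR0 := hAR0 σ hσ
  have hσne : t ≠ σ := by rintro rfl; exact htA hσ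
  set L : Finset H := (SS (H := H) (Fx V s ⊓ Fx V r)).erase σ with hL
  have hLnc : ∀ σ' ∈ L, NC V t σ' := by
    intro σ' hσ'
    rw [hL, Finset.mem_erase] at hσ'
    have hσ'' := mem_SS.1 hσ'.2
    refine ⟨h1'.hs, hσ''.1, fun hc => ?_⟩
    have := s2 t s σ σ' htC hsC h1'.symm ((memR0 σ).1 hσR0).1 ((memR0 σ').1 (hAR0 σ' hσ'')).1
      hσt.symm hc.symm
    exact hσ'.1 (eq_of_comm_even hb hp h2 h1 hσ hσ'' this).symm
  have hLcard : L.card = q := by
    rw [hL, Finset.card_erase_of_mem (mem_SS.2 hσ), card_SS hb hp h1]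
    rfl
  set g : H → Finset H := fun σ' => (SS (H := H) (Fx V t ⊓ Fx V σ')).erase t with hg
  have hgcard : ∀ σ' ∈ L, (g σ').card = q := by
    intro σ' hσ'
    have hnc := hLnc σ' hσ'
    rw [hg]
    simp only
    rw [Finset.card_erase_of_mem (mem_SS.2 (mem_RR_r t σ' hnc.hr)), card_SS hb hp hnc, hqt]
    rfl
  have hgnc : ∀ σ' ∈ L, ∀ x ∈ g σ', NC V t x := by
    intro σ' hσ' x hx
    have hnc := hLnc σ' hσ'
    simp only [hg, Finset.mem_erase] at hx
    refine ⟨hnc.hr, (mem_SS.1 hx.2).1, fun hc => ?_⟩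
    exact hx.1 (eq_of_comm_even hb hp h2 hnc (mem_RR_r t σ' hnc.hr) (mem_SS.1 hx.2) hc).symm
  have hgR0 : ∀ σ' ∈ L, ∀ x ∈ g σ', x ∈ R0 := by
    intro σ' hσ' x hx
    have hnc := hgnc σ' hσ' x hx
    have hσ'C := ((memR0 σ').1 (hAR0 σ' (mem_SS.1 (Finset.mem_of_mem_erase hσ')))).1
    simp only [hg, Finset.mem_erase] at hx
    refine (memR0 x).2 ⟨⟨hnc.hs, fun v hv => (mem_SS.1 hx.2).2 ⟨htC.2 hv, hσ'C.2 hv⟩⟩, t, htC,
      hnc.symm⟩
  have hdisj : ∀ σ' ∈ L, ∀ σ'' ∈ L, σ' ≠ σ'' → Disjoint (g σ') (g σ'') := by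
    intro σ' hσ' σ'' hσ'' hne
    rw [Finset.disjoint_left]
    intro x hx hx'
    have hnc' := hLnc σ' hσ'
    have hnc'' := hLnc σ'' hσ''
    have hx1 := hx
    have hx2 := hx'
    simp only [hg, Finset.mem_erase] at hx1 hx2
    have e1 := inf_eq' hb hp hnc' (mem_RR_r t σ' hnc'.hr) (mem_SS.1 hx1.2) hx1.1.symm
    have e2 := inf_eq' hb hp hnc'' (mem_RR_r t σ'' hnc''.hr) (mem_SS.1 hx2.2) hx2.1.symm
    have e3 : Fx V t ⊓ Fx V σ' = Fx V t ⊓ Fx V σ'' := e1.symm.trans e2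
    have m1 : σ' ∈ RR (H := H) (Fx V t ⊓ Fx V σ') := mem_RR_s t σ' hnc'.hs
    have m2 : σ'' ∈ RR (H := H) (Fx V t ⊓ Fx V σ') := by rw [e3]; exact mem_RR_s t σ'' hnc''.hs
    have e4 := inf_eq' hb hp hnc' m1 m2 hne
    have e5 := inf_eq' hb hp h1 (mem_SS.1 (Finset.mem_of_mem_erase hσ'))
      (mem_SS.1 (Finset.mem_of_mem_erase hσ'')) hne
    apply htA
    refine ⟨h1'.hs, ?_⟩
    rw [← e5, e4]
    exact inf_le_left
  have hbig : (L.biUnion g).card = q * q := by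
    rw [Finset.card_biUnion (fun a ha b hb hab => hdisj a ha b hb hab),
      Finset.sum_congr rfl hgcard, Finset.sum_const, hLcard, smul_eq_mul]
  have hsub2 : insert t (insert σ (L.biUnion g)) ⊆ R0 := by
    intro x hx
    rw [Finset.mem_insert, Finset.mem_insert, Finset.mem_biUnion] at hx
    rcases hx with rfl | rfl | ⟨σ', hσ', hx⟩
    · exact htR0
    · exact hσR0
    · exact hgR0 σ' hσ' x hx
  have hσn : σ ∉ L.biUnion g := by
    intro h
    obtain ⟨σ', hσ', hx⟩ := Finset.mem_biUnion.1 h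
    exact (hgnc σ' hσ' σ hx).nc hσt
  have htn : t ∉ insert σ (L.biUnion g) := by
    intro h
    rcases Finset.mem_insert.1 h with h | h
    · exact hσne h
    · obtain ⟨σ', hσ', hx⟩ := Finset.mem_biUnion.1 h
      exact (hgnc σ' hσ' t hx).nc rfl
  have hlow := Finset.card_le_card hsub2
  rw [Finset.card_insert_of_notMem htn, Finset.card_insert_of_notMem hσn, hbig] at hlow
  have hfin := hlow.trans upper
  have := Nat.sq_sub_sq q 1
  rw [one_pow] at this
  rw [← this, pow_two] at hfin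
  omega

end

end Cfsg.Agent.H27.BPA
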