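import Cfsg.Agent.H27.BPA8

set_option autoImplicit false
set_option linter.unusedSectionVars false
set_option linter.deprecated false
set_option linter.unusedVariables false

/-!
S5753: several dihedral points are impossible.
-/

namespace Cfsg.Agent.H27.BPA

variable {H V : Type*} [Group H] [AddCommGroup V] [DistribMulAction H V]

/-- dihedral point -/
def Pt (H : Type*) [Group H] [DistribMulAction H V] (P : AddSubgroup V) : Prop :=
  ∃ a b : H, NC V a b ∧ P = Fx V a ⊓ Fx V b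

/-- conjugate subgroup -/
def cj (h : H) (P : AddSubgroup V) : AddSubgroup V :=
  P.comap (DistribSMul.toAddMonoidHom V h⁻¹)

theorem mem_cj {h : H} {P : AddSubgroup V} {v : V} : v ∈ cj h P ↔ h⁻¹ • v ∈ P := Iff.rfl

theorem NC.conj {a b : H} (h : NC V a b) (g : H) : NC V (g * a * g⁻¹) (g * b * g⁻¹) := by
  refine ⟨h.hr.conj g, h.hs.conj g, fun e => h.nc ?_⟩
  have e1 : g * a * g⁻¹ * (g * b * g⁻¹) = g * (a * b) * g⁻¹ := by group
  have e2 : g * b * g⁻¹ * (g * a * g⁻¹) = g * (b * a) * g⁻¹ := by group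
  rw [e1, e2] at e
  exact mul_left_cancel (mul_right_cancel e)

theorem Pt.cj {P : AddSubgroup V} (hP : Pt H P) (g : H) : Pt H (cj g P) := by
  obtain ⟨a, b, h, rfl⟩ := hP
  refine ⟨_, _, h.conj g, ?_⟩
  ext v
  rw [mem_cj, AddSubgroup.mem_inf, AddSubgroup.mem_inf, mem_Fx_conj, mem_Fx_conj]

section

variable [FaithfulSMul H V] {p : ℕ} [Fact p.Prime] [Finite V] [Finite H]

theorem Pt.nc_one (hb : Bin H V) (hp : ∀ v : V, p • v = 0) {P : AddSubgroup V} (hP : Pt H P)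
    {t : H} (ht : t ∈ RR (H := H) P) : ∃ σ ∈ RR (H := H) P, NC V t σ ∧ Fx V t ⊓ Fx V σ = P := by
  obtain ⟨a, b, h, rfl⟩ := hP
  rcases Cfsg.Agent.H27.BPA.nc_one hb hp h ht with h1 | h1
  · exact ⟨a, mem_RR_r a b h.hr, h1, inf_eq' hb hp h ht (mem_RR_r a b h.hr) h1.ne⟩
  · exact ⟨b, mem_RR_s a b h.hs, h1, inf_eq' hb hp h ht (mem_RR_s a b h.hs) h1.ne⟩

theorem Pt.exists_rf (hb : Bin H V) (hp : ∀ v : V, p • v = 0) {P : AddSubgroup V} (hP : Pt H P) :
    ∃ t, t ∈ RR (H := H) P := by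
  obtain ⟨a, b, h, rfl⟩ := hP
  exact ⟨a, mem_RR_r a b h.hr⟩

theorem Pt.cover (hb : Bin H V) {P : AddSubgroup V} (hP : Pt H P) (v : V) :
    ∃ t ∈ RR (H := H) P, v ∈ Fx V t := by
  obtain ⟨a, b, h, rfl⟩ := hP
  exact Cfsg.Agent.H27.BPA.cover hb h v

theorem Pt.uniq (hb : Bin H V) (hp : ∀ v : V, p • v = 0) {P : AddSubgroup V} (hP : Pt H P)
    {t t' : H} (ht : t ∈ RR (H := H) P) (ht' : t' ∈ RR (H := H) P) {x : V}
    (hx : x ∈ Fx V t) (hx' : x ∈ Fx V t') (hxA : x ∉ P) : t = t' := by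
  obtain ⟨a, b, h, rfl⟩ := hP
  exact uniq_t hb hp h ht ht' hx hx' hxA

theorem Pt.disj (hb : Bin H V) (hp : ∀ v : V, p • v = 0) {P : AddSubgroup V} (hP : Pt H P)
    {t : H} (ht : t ∈ RR (H := H) P) {w : V} (hw : w ∈ Wx V t) (hwP : w ∈ P) : w = 0 := by
  obtain ⟨a, b, h, rfl⟩ := hP
  have := A_inf_Wx hb hp h ht
  exact disj_iff.1 this w hwP hw

theorem Pt.eq_of_mem (hb : Bin H V) (hp : ∀ v : V, p • v = 0)
    (hU : ∀ s r t : H, NC V s r → NC V s t → Fx V s ⊓ Fx V r = Fx V s ⊓ Fx V t)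
    {P P' : AddSubgroup V} (hP : Pt H P) (hP' : Pt H P') {t : H} (ht : t ∈ RR (H := H) P)
    (ht' : t ∈ RR (H := H) P') : P = P' := by
  obtain ⟨σ, _, h1, h2⟩ := hP.nc_one hb hp ht
  obtain ⟨σ', _, h1', h2'⟩ := hP'.nc_one hb hp ht'
  rw [← h2, ← h2']
  exact hU _ _ _ h1 h1'

theorem Pt.comm (hb : Bin H V) (hp : ∀ v : V, p • v = 0)
    (hU : ∀ s r t : H, NC V s r → NC V s t → Fx V s ⊓ Fx V r = Fx V s ⊓ Fx V t)
    {P : AddSubgroup V} (hP : Pt H P) {t u : H} (ht : t ∈ RR (H := H) P) (hu : IsRf V u)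
    (hu' : u ∉ RR (H := H) P) : t * u = u * t := by
  by_contra hc
  have h1 : NC V t u := ⟨ht.1, hu, hc⟩
  obtain ⟨σ, _, h2, h3⟩ := hP.nc_one hb hp ht
  apply hu'
  refine ⟨hu, ?_⟩
  rw [← h3, hU _ _ _ h2 h1]
  exact inf_le_right

/-- a reflection not in `RR P` has its commutator space in `P`. -/
theorem Pt.Wx_le (hb : Bin H V) (hp : ∀ v : V, p • v = 0)
    (hU : ∀ s r t : H, NC V s r → NC V s t → Fx V s ⊓ Fx V r = Fx V s ⊓ Fx V t)
    {P : AddSubgroup V} (hP : Pt H P) {u : H} (hu : IsRf V u)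
    (hu' : u ∉ RR (H := H) P) : Wx V u ≤ P := by
  have hP' := hP
  obtain ⟨a, b, h, rfl⟩ := hP
  have ha := mem_RR_r a b h.hr
  have hb2 := mem_RR_s a b h.hs
  intro w hw
  refine ⟨mem_Fx.2 (comm_fix hb h.hr hu ?_ (hP'.comm hb hp hU ha hu hu') hw),
    mem_Fx.2 (comm_fix hb h.hs hu ?_ (hP'.comm hb hp hU hb2 hu hu') hw)⟩
  · rintro rfl; exact hu' ha
  · rintro rfl; exact hu' hb2

theorem Pt.Wx_le' (hb : Bin H V) (hp : ∀ v : V, p • v = 0)
    (hU : ∀ s r t : H, NC V s r → NC V s t → Fx V s ⊓ Fx V r = Fx V s ⊓ Fx V t)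
    {P P' : AddSubgroup V} (hP : Pt H P) (hP' : Pt H P') (hne : P ≠ P') {u : H}
    (hu : u ∈ RR (H := H) P) : Wx V u ≤ P' :=
  hP'.Wx_le hb hp hU hu.1 (fun h => hne (hP.eq_of_mem hb hp hU hP' hu h))

theorem not_top {P : AddSubgroup V} (hP : Pt H P) : P ≠ ⊤ := by
  obtain ⟨a, b, h, rfl⟩ := hP
  intro htop
  obtain ⟨x, hx⟩ := h.hr.exists_notMem
  apply hx
  have : x ∈ Fx V a ⊓ Fx V b := by rw [htop]; exact AddSubgroup.mem_top x
  exact this.1

/-- the set of the dihedral points -/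
noncomputable def PP (H V : Type*) [Group H] [AddCommGroup V] [DistribMulAction H V] [Finite V] :
    Finset (AddSubgroup V) := (Set.toFinite {P : AddSubgroup V | Pt H P}).toFinset

theorem mem_PP {P : AddSubgroup V} : P ∈ PP H V ↔ Pt H P := by simp [PP]

theorem inf_PP (hirr : Irr H V) {P0 : AddSubgroup V} (h0 : Pt H P0) {v : V}
    (hv : ∀ P : AddSubgroup V, Pt H P → v ∈ P) : v = 0 := by
  have := hirr (sInf {P : AddSubgroup V | Pt H P}) (by
    intro h v hv
    rw [AddSubgroup.mem_sInf] at hv ⊢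
    intro P hP
    have := hv (cj h⁻¹ P) (Pt.cj hP h⁻¹)
    rw [mem_cj, inv_inv] at this
    exact this)
  rcases this with h | h
  · have : v ∈ sInf {P : AddSubgroup V | Pt H P} := by
      rw [AddSubgroup.mem_sInf]; exact hv
    rw [h] at this
    exact this
  · exfalso
    apply not_top h0
    rw [eq_top_iff, ← h]
    exact sInf_le h0

theorem exists_Pt (hb : Bin H V) (hp : ∀ v : V, p • v = 0)
    (hU : ∀ s r t : H, NC V s r → NC V s t → Fx V s ⊓ Fx V r = Fx V s ⊓ Fx V t)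
    (hirr : Irr H V) {P0 : AddSubgroup V} (h0 : Pt H P0) {ρ : H} (hρ : IsRf V ρ) :
    ∃ P : AddSubgroup V, Pt H P ∧ ρ ∈ RR (H := H) P := by
  by_contra hcon
  push Not at hcon
  obtain ⟨w, hw, hw0⟩ := exists_ne_of (Wx_ne_bot (V := V) hρ.1)
  exact hw0 (inf_PP hirr h0 (fun P hP => hP.Wx_le hb hp hU hρ (hcon P hP) hw))

open Classical in
/-- sums over the points -/
theorem sumPt_mem (hb : Bin H V) (hp : ∀ v : V, p • v = 0)
    (hU : ∀ s r t : H, NC V s r → NC V s t → Fx V s ⊓ Fx V r = Fx V s ⊓ Fx V t)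
    (T : Finset (AddSubgroup V)) (hT : ∀ P ∈ T, Pt H P) (y : AddSubgroup V → V)
    (hy : ∀ P ∈ T, ∃ σ ∈ RR (H := H) P, y P ∈ Wx V σ) (P' : AddSubgroup V) (hP' : Pt H P') :
    (P' ∈ T → (∑ P ∈ T, y P) - y P' ∈ P') ∧ (P' ∉ T → ∑ P ∈ T, y P ∈ P') := by
  constructor
  · intro h
    rw [← Finset.add_sum_erase T y h, add_sub_cancel_left]
    refine sum_mem (fun P hP => ?_)
    rw [Finset.mem_erase] at hP
    obtain ⟨σ, hσ, hyσ⟩ := hy P hP.2
    exact (hT P hP.2).Wx_le' hb hp hU hP' hP.1 hσ hyσ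
  · intro h
    refine sum_mem (fun P hP => ?_)
    obtain ⟨σ, hσ, hyσ⟩ := hy P hP
    exact (hT P hP).Wx_le' hb hp hU hP' (fun e => h (e ▸ hP)) hσ hyσ

/-- elements fixing a generic vector fix every dihedral point -/
theorem generic (hb : Bin H V) (hp : ∀ v : V, p • v = 0)
    (hU : ∀ s r t : H, NC V s r → NC V s t → Fx V s ⊓ Fx V r = Fx V s ⊓ Fx V t)
    (hirr : Irr H V) {x : V} (hx : ∀ P : AddSubgroup V, Pt H P → x ∉ P) {P0 : AddSubgroup V}
    (h0 : Pt H P0) {k : H} (hk : k • x = x) {v : V} (hv : v ∈ P0) : k • v ∈ P0 := by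
  classical
  -- the reflections fixing `x`
  have hch : ∀ P : AddSubgroup V, ∃ (t : H) (y : V), Pt H P → (t ∈ RR (H := H) P ∧ x ∈ Fx V t ∧
      (∃ σ ∈ RR (H := H) P, y ∈ Wx V σ) ∧ t • y ≠ y) := by
    intro P
    by_cases hP : Pt H P
    · obtain ⟨t, ht, hxt⟩ := hP.cover hb x
      obtain ⟨σ, hσ, hnc, _⟩ := hP.nc_one hb hp ht
      obtain ⟨y, hy, hy0⟩ := exists_ne_of (Wx_ne_bot (V := V) hσ.1.1)
      exact ⟨t, y, fun _ => ⟨ht, hxt, ⟨σ, hσ, hy⟩, fun h => hy0 (nc_disj hb hnc.hs hnc.nc hy h)⟩⟩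
    · exact ⟨1, 0, fun h => absurd h hP⟩
  choose tt yy hty using hch
  set y : V := ∑ P ∈ PP H V, yy P with hy
  have hyt : ∀ P : AddSubgroup V, Pt H P → tt P • y ≠ y := by
    intro P hP he
    obtain ⟨h1, h2, h3, h4⟩ := hty P hP
    have h5 := (sumPt_mem hb hp hU (PP H V) (fun P hP => mem_PP.1 hP) yy
      (fun P hP => (hty P (mem_PP.1 hP)).2.2.1) P hP).1 (mem_PP.2 hP)
    have h6 : tt P • (y - yy P) = y - yy P := mem_Fx.1 (h1.2 h5)
    rw [smul_sub, he] at h6
    exact h4 (sub_right_injective h6)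
  have hreg : ∀ g : H, (∀ a ∈ ({x} : Set V), g • a = a) → g • y = y → g = 1 := by
    intro g hg1 hg2
    by_contra hg
    obtain ⟨ρ, hρ1, hρ2⟩ := Cfsg.Agent.H27.BPA.exists_rf (V := V) hg
    obtain ⟨P, hP, hρP⟩ := exists_Pt hb hp hU hirr h0 hρ1
    obtain ⟨h1, h2, h3, h4⟩ := hty P hP
    have h5 : ρ = tt P := hP.uniq hb hp hρP h1 (hρ2 (mem_Fx.2 (hg1 x rfl))) h2 (hx P hP)
    apply hyt P hP
    rw [← h5]
    exact mem_Fx.1 (hρ2 (mem_Fx.2 hg2))
  have hsq : ∀ g : H, g • x = x → g * g = 1 := fun g hg =>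
    exp_two hb {x} y hreg g (fun a ha => by rw [Set.mem_singleton_iff.1 ha]; exact hg)
  obtain ⟨h1, h2, _, _⟩ := hty P0 h0
  have hcm : k * tt P0 = tt P0 * k := comm_of_sq (hsq k hk) (h1.1.sq hb)
    (hsq _ (by rw [mul_smul, mem_Fx.1 h2, hk]))
  have hmem : tt P0 ∈ RR (H := H) (cj k P0) := by
    refine ⟨h1.1, fun u hu => ?_⟩
    rw [mem_cj] at hu
    have h3 := mem_Fx.1 (h1.2 hu)
    rw [mem_Fx]
    have h4 : k • (tt P0 • (k⁻¹ • u)) = u := by rw [h3, smul_inv_smul]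
    rw [← mul_smul, hcm, mul_smul, smul_inv_smul] at h4
    exact h4
  have := (Pt.cj h0 k).eq_of_mem hb hp hU h0 hmem h1
  rw [← this, mem_cj, inv_smul_smul]
  exact hv

/-- there is only one point and it is trivial -/
theorem one_point (hb : Bin H V) (hp : ∀ v : V, p • v = 0)
    (hU : ∀ s r t : H, NC V s r → NC V s t → Fx V s ⊓ Fx V r = Fx V s ⊓ Fx V t)
    (hirr : Irr H V) {P1 : AddSubgroup V} (h1 : Pt H P1) : P1 = ⊥ := by
  classical
  by_contra hbot
  obtain ⟨h, v0, hv0, hv0'⟩ : ∃ (h : H) (v : V), v ∈ P1 ∧ h • v ∉ P1 := by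
    by_contra hcon
    push Not at hcon
    rcases hirr P1 hcon with h | h
    · exact hbot h
    · exact not_top h1 h
  have hPne : cj h⁻¹ P1 ≠ P1 := by
    intro he
    apply hv0'
    have : v0 ∈ cj h⁻¹ P1 := by rw [he]; exact hv0
    rw [mem_cj, inv_inv] at this
    exact this
  have hch : ∀ P : AddSubgroup V, ∃ (y : V), Pt H P → (
      (∃ σ ∈ RR (H := H) P, y ∈ Wx V σ) ∧ y ∉ P) := by
    intro P
    by_cases hP : Pt H P
    · obtain ⟨σ, hσ⟩ := hP.exists_rf hb hp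
      obtain ⟨y, hy, hy0⟩ := exists_ne_of (Wx_ne_bot (V := V) hσ.1.1)
      exact ⟨y, fun _ => ⟨⟨σ, hσ, hy⟩, fun h => hy0 (hP.disj hb hp hσ hy h)⟩⟩
    · exact ⟨0, fun h => absurd h hP⟩
  choose yy hyy using hch
  set T := (PP H V).erase P1 with hT
  have hTP : ∀ P ∈ T, Pt H P := fun P hP => mem_PP.1 (Finset.mem_of_mem_erase hP)
  set y : V := ∑ P ∈ T, yy P with hy
  have hyP1 : y ∈ P1 := (sumPt_mem hb hp hU T hTP yy (fun P hP => (hyy P (hTP P hP)).1) P1 h1).2
    (Finset.notMem_erase _ _)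
  have hyP : ∀ P : AddSubgroup V, Pt H P → P ≠ P1 → y ∉ P := by
    intro P hP hne hyP
    have hPT : P ∈ T := Finset.mem_erase.2 ⟨hne, mem_PP.2 hP⟩
    have h5 := (sumPt_mem hb hp hU T hTP yy (fun P hP => (hyy P (hTP P hP)).1) P hP).1 hPT
    apply (hyy P hP).2
    have : yy P = y - (y - yy P) := by abel
    rw [this]
    exact sub_mem hyP h5
  -- conjugates of `y` outside `P1`
  have key : ∀ n : ℕ, ∀ k : H, k • y ∉ P1 →
      ((PP H V).filter (fun P => y + k • y ∈ P)).card ≤ n →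
      ∃ k' : H, k' • y ∉ P1 ∧ ∀ P : AddSubgroup V, Pt H P → y + k' • y ∉ P := by
    intro n
    induction n with
    | zero =>
      intro k hk hn
      refine ⟨k, hk, fun P hP hmem => ?_⟩
      have : P ∈ (PP H V).filter (fun P => y + k • y ∈ P) :=
        Finset.mem_filter.2 ⟨mem_PP.2 hP, hmem⟩
      have h2 := Finset.card_pos.2 ⟨P, this⟩
      omega
    | succ n ih =>
      intro k hk hn
      by_cases hbad : ∃ P : AddSubgroup V, Pt H P ∧ y + k • y ∈ P
      · obtain ⟨P, hP, hmem⟩ := hbad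
        have hPP1 : P ≠ P1 := by
          rintro rfl
          apply hk
          have : k • y = (y + k • y) - y := by abel
          rw [this]
          exact sub_mem hmem hyP1
        have hkyP : k • y ∉ P := by
          intro h
          apply hyP P hP hPP1
          have : y = (y + k • y) - k • y := by abel
          rw [this]
          exact sub_mem hmem h
        obtain ⟨t, ht, hyt⟩ := hP.cover hb (k • y)
        obtain ⟨τ, hτ, hnc, _⟩ := hP.nc_one hb hp ht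
        have hτy : τ • k • y ≠ k • y := fun h =>
          hnc.ne (hP.uniq hb hp ht hτ hyt (mem_Fx.2 h) hkyP)
        have hW : τ • k • y - k • y ∈ Wx V τ := sub_mem_Wx τ _
        apply ih (τ * k)
        · intro h
          apply hk
          rw [mul_smul] at h
          have h3 : τ • k • y - k • y ∈ P1 := hP.Wx_le' hb hp hU h1 hPP1 hτ hW
          have : k • y = τ • k • y - (τ • k • y - k • y) := by abel
          rw [this]
          exact sub_mem h h3
        · have hlt : (PP H V).filter (fun P => y + (τ * k) • y ∈ P) ⊂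
              (PP H V).filter (fun P => y + k • y ∈ P) := by
            rw [Finset.ssubset_iff_of_subset]
            · refine ⟨P, Finset.mem_filter.2 ⟨mem_PP.2 hP, hmem⟩, fun h => ?_⟩
              have h4 := (Finset.mem_filter.1 h).2
              rw [mul_smul] at h4
              have h5 : τ • k • y - k • y ∈ P := by
                have : τ • k • y - k • y = (y + τ • k • y) - (y + k • y) := by abel
                rw [this]
                exact sub_mem h4 hmem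
              exact hτy (sub_eq_zero.1 (hP.disj hb hp hτ hW h5))
            · intro Q hQ
              obtain ⟨hQ1, hQ2⟩ := Finset.mem_filter.1 hQ
              refine Finset.mem_filter.2 ⟨hQ1, ?_⟩
              rw [mul_smul] at hQ2
              have hQP := mem_PP.1 hQ1
              by_cases hQe : P = Q
              · rw [← hQe]; exact hmem
              · have h3 : τ • k • y - k • y ∈ Q := hP.Wx_le' hb hp hU hQP hQe hτ hW
                have : y + k • y = (y + τ • k • y) - (τ • k • y - k • y) := by abel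
                rw [this]
                exact sub_mem hQ2 h3
          have := Finset.card_lt_card hlt
          omega
      · push Not at hbad
        exact ⟨k, hk, hbad⟩
  have hstart : h • y ∉ P1 := by
    intro hh
    apply hyP (cj h⁻¹ P1) (Pt.cj h1 h⁻¹) hPne
    rw [mem_cj, inv_inv]
    exact hh
  obtain ⟨k, hk1, hk2⟩ := key _ h hstart le_rfl
  obtain ⟨g, _, hg2, hg3, hg4⟩ := swap hb ∅ k (fun a ha => absurd ha (Set.notMem_empty a)) y
  apply hk1
  rw [← hg2]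
  exact generic hb hp hU hirr hk2 h1 hg4 hyP1

end

end Cfsg.Agent.H27.BPA
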