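import Cfsg.Agent.H27.BPA4

set_option autoImplicit false

/-!
S5753: statement of the structure theorem for the fixer of `A = Fx r ⊓ Fx s` (r, s non-commuting
reflections) and of the uniqueness statement.
-/

namespace Cfsg.Agent.H27.BPA

/-- structure of the fixer of `A = Fx r ⊓ Fx s`. -/
structure DS {H : Type*} (V : Type*) [Group H] [AddCommGroup V] [DistribMulAction H V]
    (r s : H) : Prop where
  card : (RR (H := H) (Fx V r ⊓ Fx V s)).ncard = Nat.card (Wx V r) + 1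
  uniq : ∀ t ∈ RR (H := H) (Fx V r ⊓ Fx V s), ∀ t' ∈ RR (H := H) (Fx V r ⊓ Fx V s), ∀ v : V,
    v ∈ Fx V t → v ∈ Fx V t' → v ∉ Fx V r ⊓ Fx V s → t = t'
  cover : ∀ v : V, ∃ t ∈ RR (H := H) (Fx V r ⊓ Fx V s), v ∈ Fx V t
  wle : ∀ t ∈ RR (H := H) (Fx V r ⊓ Fx V s), Wx V t ≤ Wx V r ⊔ Wx V s
  wcover : ∀ u ∈ Wx V r ⊔ Wx V s, ∃ t ∈ RR (H := H) (Fx V r ⊓ Fx V s), u ∈ Wx V t
  fixer : ∀ t ∈ RR (H := H) (Fx V r ⊓ Fx V s), ∀ x ∈ Fx V t, x ∉ Fx V r ⊓ Fx V s →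
    ∀ g : H, Fx V r ⊓ Fx V s ≤ Fx V g → g • x = x → g = 1 ∨ g = t
  orb : ∀ g : H, Fx V r ⊓ Fx V s ≤ Fx V g → ∀ v : V,
    ∃ t ∈ RR (H := H) (Fx V r ⊓ Fx V s), t • v = g • v

end Cfsg.Agent.H27.BPA
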